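import Cfsg.Agent.Lib.Transfer.NormCyc.Dihedral
import Cfsg.Agent.Lib.Block.BSWRec.Dihedral
import Cfsg.Agent.Lib.Classical.PSLFieldAut
import Cfsg.Agent.S0144

/-!
The groups in which all nontrivial subgroups of a cyclic subgroup of even order have the same
normalizer, with no nontrivial solvable normal subgroup: `PSL(2, q)` and `PGL(2, q)`.
-/

set_option autoImplicit false
set_option linter.unusedSectionVars false
set_option linter.style.haveILetI false

open scoped MatrixGroups

namespace Cfsg.Agent.Transfer.NormCyc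

open Cfsg.Agent.Classical Cfsg.Agent.Classical.PSLAut

universe u

/-- A group with a cyclic subgroup `R` of index two and inverting involutions outside is dihedral. -/
theorem nonempty_dihedral {H : Type*} [Group H] [Finite H] {a e : H} {n : ℕ} [NeZero n]
    (ha : orderOf a = n) (he : e * e = 1) (hea : e * a * e⁻¹ = a⁻¹)
    (hn : e ∉ Subgroup.zpowers a) (hall : ∀ x : H, x ∈ Subgroup.zpowers a ∨ e * x ∈ Subgroup.zpowers a) :
    Nonempty (H ≃* DihedralGroup n) := by
  classical
  set f : ZMod n → H := fun i => a ^ i.val with hf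
  have hfadd : ∀ i j, f (i + j) = f i * f j := by
    intro i j
    simp only [hf, ← pow_add]
    rw [ZMod.val_add, show a ^ ((i.val + j.val) % n) = a ^ ((i.val + j.val) % orderOf a) by rw [ha], pow_mod_orderOf]
  have hconj : ∀ i, e * f i = (f i)⁻¹ * e := by
    intro i
    have h := congrArg (· ^ i.val) hea
    simp only [conj_pow, inv_pow] at h
    rw [mul_inv_eq_iff_eq_mul] at h
    exact h
  have hfsub : ∀ i j, f (j - i) = (f i)⁻¹ * f j := by
    intro i j
    rw [eq_inv_mul_iff_mul_eq, ← hfadd, add_sub_cancel]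
  let ψ : DihedralGroup n →* H := MonoidHom.mk'
    (fun x => match x with
      | DihedralGroup.r i => f i
      | DihedralGroup.sr i => e * f i)
    (by
      rintro (i | i) (j | j) <;>
        simp only [DihedralGroup.r_mul_r, DihedralGroup.r_mul_sr, DihedralGroup.sr_mul_r,
          DihedralGroup.sr_mul_sr]
      · exact hfadd i j
      · rw [hfsub, ← mul_assoc, ← hconj i |> fun h => show f i * e = e * (f i)⁻¹ from ?_]
        · group
        · have h2 : f i * (e * f i) = e := by rw [h]; group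
          calc f i * e = f i * (e * f i) * (f i)⁻¹ := by group
            _ = e * (f i)⁻¹ := by rw [h2]
      · rw [mul_assoc, hfadd]
      · rw [hfsub, show e * f i * (e * f j) = (e * f i) * e * f j by group, hconj i,
          show (f i)⁻¹ * e * e * f j = (f i)⁻¹ * (e * e) * f j by group, he, mul_one])
  have hfmem : ∀ i, f i ∈ Subgroup.zpowers a := fun i => pow_mem (Subgroup.mem_zpowers a) _
  have hsurjf : ∀ x ∈ Subgroup.zpowers a, ∃ i, f i = x := by
    intro x hx
    obtain ⟨k, -, rfl⟩ := Finset.mem_image.1 (mem_zpowers_iff_mem_range_orderOf.1 hx)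
    refine ⟨(k : ZMod n), ?_⟩
    show a ^ (k : ZMod n).val = a ^ k
    rw [ZMod.val_natCast, show a ^ (k % n) = a ^ (k % orderOf a) by rw [ha], pow_mod_orderOf]
  have hinjf : Function.Injective f := by
    intro i j hij
    refine ZMod.val_injective n (pow_injOn_Iio_orderOf ?_ ?_ hij) <;>
      simp [ha, ZMod.val_lt]
  refine ⟨(MulEquiv.ofBijective ψ ⟨?_, ?_⟩).symm⟩
  · rintro (i | i) (j | j) h
    · exact congrArg _ (hinjf h)
    · exfalso
      apply hn
      have h2 : e = f i * (f j)⁻¹ := eq_mul_inv_iff_mul_eq.2 h.symm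
      rw [h2]; exact mul_mem (hfmem i) (inv_mem (hfmem j))
    · exfalso
      apply hn
      have h2 : e = f j * (f i)⁻¹ := eq_mul_inv_iff_mul_eq.2 h
      rw [h2]; exact mul_mem (hfmem j) (inv_mem (hfmem i))
    · exact congrArg _ (hinjf (mul_left_cancel (a := e) h))
  · intro x
    rcases hall x with hx | hx
    · obtain ⟨i, hi⟩ := hsurjf x hx
      exact ⟨.r i, hi⟩
    · obtain ⟨i, hi⟩ := hsurjf _ hx
      exact ⟨.sr i, by show e * f i = x; rw [hi, ← mul_assoc, he, one_mul]⟩

variable {G : Type u} [Group G] [Finite G]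

theorem exists_invol (hG : Hy G) [Nontrivial G] : ∃ i : G, orderOf i = 2 := by
  haveI : Fact (Nat.Prime 2) := ⟨Nat.prime_two⟩
  exact exists_prime_orderOf_dvd_card' 2 (even_iff_two_dvd.1 (even_card hG))

/-- A normal subgroup centralising an involution is trivial. -/
theorem eq_bot_of_le_centralizer (hG : Hy G) {M : Subgroup G} (hM : M.Normal) {i : G}
    (hi : orderOf i = 2) (hMi : ∀ m ∈ M, Commute m i) : M = ⊥ := by
  refine hG.ss M hM ?_
  haveI := solvable_centralizer hG.toNc hi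
  exact Group.isSolvable_of_isSolvable_injective (Subgroup.inclusion_injective
    (fun m hm => Subgroup.mem_centralizer_singleton_iff.2 (hMi m hm).eq :
      M ≤ Subgroup.centralizer ({i} : Set G)))

/-- A minimal normal subgroup is simple. -/
theorem exists_simple_normal (hG : Hy G) [Nontrivial G] :
    ∃ N : Subgroup G, N.Normal ∧ N ≠ ⊥ ∧ IsSimpleGroup ↥N := by
  classical
  set s : Set (Subgroup G) := {N | N.Normal ∧ N ≠ ⊥}
  obtain ⟨N, ⟨hNn, hN1⟩, hmin⟩ := (Set.toFinite s).exists_minimal ⟨⊤, inferInstance, top_ne_bot⟩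
  haveI := hNn
  haveI : Nontrivial ↥N := (Subgroup.nontrivial_iff_ne_bot N).2 hN1
  refine ⟨N, hNn, hN1, ⟨fun H hH => ?_⟩⟩
  by_contra hne
  push Not at hne
  set s' : Set (Subgroup ↥N) := {L | L.Normal ∧ L ≠ ⊥ ∧ L ≤ H}
  obtain ⟨L, ⟨hLn, hL1, hLH⟩, hLmin⟩ := (Set.toFinite s').exists_minimal ⟨H, hH, hne.1, le_rfl⟩
  haveI := hLn
  obtain ⟨g, hg⟩ : ∃ g : G, ∃ x ∈ L, MulAut.conjNormal g x ∉ L := by
    by_contra h
    push Not at h
    have hLG : (L.map N.subtype).Normal := ⟨by
      rintro _ ⟨x, hx, rfl⟩ g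
      exact ⟨MulAut.conjNormal g x, h g x hx, MulAut.conjNormal_apply g x⟩⟩
    have hNL : N ≤ L.map N.subtype := hmin ⟨hLG, fun e => hL1 (by
      rwa [Subgroup.map_eq_bot_iff_of_injective _ N.subtype_injective] at e)⟩
      (Subgroup.map_subtype_le L)
    apply hne.2
    rw [eq_top_iff]
    intro x _
    obtain ⟨y, hy, e⟩ := hNL x.2
    exact hLH ((N.subtype_injective e) ▸ hy)
  obtain ⟨x, hx, hxg⟩ := hg
  set c : ↥N ≃* ↥N := MulAut.conjNormal g with hc
  set L' := L.map c.toMonoidHom with hL'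
  haveI hL'n : L'.Normal := hLn.map _ c.surjective
  have hinf : L ⊓ L' = ⊥ := by
    by_contra h
    have h1 : L ≤ L ⊓ L' := hLmin ⟨inferInstance, h, inf_le_left.trans hLH⟩ inf_le_left
    have h2 : L = L' := Subgroup.eq_of_le_of_card_ge (h1.trans inf_le_right)
      (le_of_eq (Subgroup.card_map_of_injective (f := c.toMonoidHom) c.injective))
    exact hxg (by rw [h2]; exact ⟨x, hx, rfl⟩)
  have hG' := hG.of_normal N
  haveI : Nontrivial ↥L := (Subgroup.nontrivial_iff_ne_bot L).2 hL1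
  obtain ⟨⟨i, hiL⟩, hi⟩ := exists_invol (hG'.of_normal L)
  rw [Subgroup.orderOf_mk] at hi
  have hbot := eq_bot_of_le_centralizer hG' hL'n hi fun m hm =>
    Subgroup.commute_of_normal_of_disjoint _ _ hLn hL'n (disjoint_iff.2 hinf) i m hiL hm |>.symm
  exact hL1 ((Subgroup.map_eq_bot_iff_of_injective (f := c.toMonoidHom) L c.injective).1 hbot)

/-- A normal subgroup has a Sylow subgroup cut out by a given one. -/
theorem exists_sylow_inf (S : Sylow 2 G) (N : Subgroup G) [hN : N.Normal] :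
    ∃ T : Sylow 2 ↥N, ∀ x : ↥N, x ∈ (T : Subgroup ↥N) ↔ (x : G) ∈ (S : Subgroup G) := by
  haveI : Fact (Nat.Prime 2) := ⟨Nat.prime_two⟩
  obtain ⟨T, hT⟩ := (S.isPGroup'.comap_subtype (K := N)).exists_le_sylow
  refine ⟨T, fun x => ⟨fun hx => ?_, fun hx => hT hx⟩⟩
  obtain ⟨P, hP⟩ := (T.isPGroup'.map N.subtype).exists_le_sylow
  obtain ⟨g, hg⟩ := MulAction.exists_smul_eq G P S
  have hle : (T : Subgroup ↥N).map (MulAut.conjNormal g : MulAut ↥N).toMonoidHom ≤
      (S : Subgroup G).subgroupOf N := by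
    rintro _ ⟨y, hy, rfl⟩
    show ((MulAut.conjNormal g y : ↥N) : G) ∈ (S : Subgroup G)
    rw [MulAut.conjNormal_apply, ← hg, Sylow.coe_subgroup_smul]
    exact Subgroup.smul_mem_pointwise_smul _ (MulAut.conj g) _ (hP ⟨y, hy, rfl⟩)
  have heq : (S : Subgroup G).subgroupOf N = (T : Subgroup ↥N) := Subgroup.eq_of_le_of_card_ge hT (by
    have := Subgroup.card_le_of_le hle
    exact (Subgroup.card_map_of_injective (f := (MulAut.conjNormal g : MulAut ↥N).toMonoidHom)
      (MulAut.conjNormal g : MulAut ↥N).injective).ge.trans this)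
  rw [← heq] at hx
  exact hx

/-- The only element of a cyclic group with the order two. -/
theorem Dih.invol_eq {hG : Nc G} {S : Sylow 2 G} {t : G} {R : Subgroup G} (hD : Dih hG S t R)
    {r : G} (hr : r ∈ R) (hr2 : orderOf r = 2) : r = t :=
  Block.BSWRec.involution_eq hD.cyc hr hD.htR hr2 hD.ht

/-- A central involution of the centralizer of `t` with a fixed nontrivial element of odd order
is `t`. -/
theorem Dih.norm_le (hG : Nc G) {S : Sylow 2 G} {t : G} {R : Subgroup G} (hD : Dih hG S t R)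
    {y n : G} (hy : y ∈ oddC hG hD.ht) (hy1 : y ≠ 1) (hn : n * y * n⁻¹ ∈ oddC hG hD.ht) :
    Commute n t := by
  haveI : Fact (Nat.Prime 2) := ⟨Nat.prime_two⟩
  set C := Subgroup.centralizer ({t} : Set G) with hC
  have hmap : C.map (MulAut.conj n).toMonoidHom ≤ C := by
    rintro _ ⟨g, hg, rfl⟩
    rw [hC, Subgroup.mem_centralizer_singleton_iff]
    refine (odd_commute_of_conj_mem hG hD.ht hn.1 (fun e => hy1 (conj_eq_one_iff.1 e)) hn.2 ?_).eq
    obtain ⟨k, hk : y ^ k = g * y * g⁻¹⟩ :=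
      odd_conj_mem hG hD.ht hy.1 hy.2 (Subgroup.mem_centralizer_singleton_iff.1 hg)
    refine ⟨k, ?_⟩
    show (n * y * n⁻¹) ^ k = _
    rw [conj_zpow, hk, MulEquiv.coe_toMonoidHom, MulAut.conj_apply]
    group
  have heq := Subgroup.eq_of_le_of_card_ge hmap
    (by rw [Subgroup.card_map_of_injective (MulAut.conj n).injective])
  set t' := n * t * n⁻¹ with ht'
  have ht'2 : orderOf t' = 2 := by
    rw [ht', show n * t * n⁻¹ = MulAut.conj n t from rfl, MulEquiv.orderOf_eq, hD.ht]
  have hcent : ∀ g, Commute g t → Commute g t' := by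
    intro g hg
    have hgC : g ∈ C.map (MulAut.conj n).toMonoidHom :=
      heq.symm ▸ Subgroup.mem_centralizer_singleton_iff.2 hg.eq
    obtain ⟨g', hg', rfl⟩ := hgC
    exact (show Commute g' t from Subgroup.mem_centralizer_singleton_iff.1 hg').map (MulAut.conj n)
  have ht'S : t' ∈ (S : Subgroup G) := by
    have hle : Subgroup.zpowers t' ≤ Subgroup.normalizer ((S : Subgroup G) : Set G) := by
      rw [Subgroup.zpowers_le, Subgroup.mem_normalizer_iff]
      intro s
      constructor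
      · intro hs
        rwa [(hcent s (hD.central s hs)).symm.eq, mul_inv_cancel_right]
      · intro hs
        have h := hcent _ (hD.central _ hs)
        have h2 := h.eq
        rw [inv_mul_cancel_right] at h2
        have h3 : t' * s * t'⁻¹ = s := (mul_left_cancel h2).symm
        rwa [h3] at hs
    have hp : IsPGroup 2 ↥((S : Subgroup G) ⊔ Subgroup.zpowers t') :=
      S.isPGroup'.to_sup_of_normal_left' (IsPGroup.of_card (n := 1)
        (by rw [Nat.card_zpowers, ht'2, pow_one])) hle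
    have := S.is_maximal' hp le_sup_left
    rw [← this]
    exact Subgroup.mem_sup_right (Subgroup.mem_zpowers t')
  have ht'R : t' ∈ R := by
    by_contra h
    have h1 := hD.invO t' ht'S h y hy
    rw [← (hcent y hy.2).eq, mul_inv_cancel_right] at h1
    exact hy1 (odd_sq_ne_one hy.1 (eq_inv_iff_mul_eq_one.1 h1))
  exact mul_inv_eq_iff_eq_mul.1 (hD.invol_eq ht'R ht'2)

/-- The images of the standard elements of orders two and three in `PSL(2, F)`. -/
def stdS (F : Type*) [Field F] : SL(2, F) := ⟨!![0, -1; 1, 0], by simp [Matrix.det_fin_two]⟩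

/-- The standard element of order three. -/
def stdX (F : Type*) [Field F] : SL(2, F) := ⟨!![0, -1; 1, -1], by simp [Matrix.det_fin_two]⟩

theorem stdS_coe (F : Type*) [Field F] : (stdS F).1 = !![0, -1; 1, 0] := rfl

theorem stdX_coe (F : Type*) [Field F] : (stdX F).1 = !![0, -1; 1, -1] := rfl

theorem stdS_inv_coe (F : Type*) [Field F] : ((stdS F)⁻¹ : SL(2, F)).1 = !![0, 1; -1, 0] := by
  rw [Matrix.SpecialLinearGroup.coe_inv, stdS_coe, Matrix.adjugate_fin_two_of]
  simp

theorem stdX_inv_coe (F : Type*) [Field F] : ((stdX F)⁻¹ : SL(2, F)).1 = !![-1, 1; -1, 0] := by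
  rw [Matrix.SpecialLinearGroup.coe_inv, stdX_coe, Matrix.adjugate_fin_two_of]
  simp

theorem std_facts {F : Type*} [Field F] (h2 : (2 : F) ≠ 0) :
    slToPSL 2 F (stdX F) * slToPSL 2 F (stdX F) * slToPSL 2 F (stdX F) = 1 ∧
      slToPSL 2 F (stdX F) ≠ 1 ∧
      slToPSL 2 F (stdS F) * slToPSL 2 F (stdX F) * (slToPSL 2 F (stdS F))⁻¹ ∉
        Subgroup.zpowers (slToPSL 2 F (stdX F)) := by
  classical
  have hx3 : stdX F * stdX F * stdX F = 1 := by
    refine Subtype.ext ?_
    show (stdX F).1 * (stdX F).1 * (stdX F).1 = 1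
    rw [show (stdX F).1 = !![0, -1; 1, -1] from rfl]
    ext i j
    fin_cases i <;> fin_cases j <;> simp [Matrix.mul_apply, Fin.sum_univ_two] <;> ring
  have hker : ∀ z : SL(2, F), slToPSL 2 F z = 1 → (z : Matrix (Fin 2) (Fin 2) F) 0 1 = 0 ∧
      (z : Matrix (Fin 2) (Fin 2) F) 1 0 = 0 ∧
      (z : Matrix (Fin 2) (Fin 2) F) 0 0 = (z : Matrix (Fin 2) (Fin 2) F) 1 1 := by
    intro z hz
    obtain ⟨r, -, hr⟩ := Matrix.SpecialLinearGroup.mem_center_iff.1
      ((QuotientGroup.eq_one_iff z).1 hz)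
    rw [← hr]
    simp
  have hxx : slToPSL 2 F (stdX F) * slToPSL 2 F (stdX F) * slToPSL 2 F (stdX F) = 1 := by
    rw [← map_mul, ← map_mul, hx3, map_one]
  have h11 : (1 : F) ≠ -1 := fun h => h2 (by linear_combination h)
  refine ⟨hxx, fun h => ?_, fun h => ?_⟩
  · have := (hker _ h).2.1
    simp [stdX] at this
  obtain ⟨k, hk⟩ := h
  have ho : orderOf (slToPSL 2 F (stdX F)) ∣ 3 := orderOf_dvd_of_pow_eq_one (by
    rw [show (3 : ℕ) = 2 + 1 from rfl, pow_succ, pow_two, hxx])
  rcases (show k % 3 = 0 ∨ k % 3 = 1 ∨ k % 3 = 2 by omega) with h0 | h0 | h0 <;>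
    rw [show k = 3 * (k / 3) + k % 3 from (Int.mul_ediv_add_emod k 3).symm, h0] at hk <;>
    simp only [zpow_add, zpow_mul, show (slToPSL 2 F (stdX F)) ^ (3 : ℤ) = 1 from by
      rw [show (3 : ℤ) = ((3 : ℕ) : ℤ) from rfl, zpow_natCast]; exact orderOf_dvd_iff_pow_eq_one.1 ho,
      one_zpow, one_mul, zpow_zero, zpow_one, zpow_two] at hk
  · have h' : slToPSL 2 F (stdS F * stdX F * (stdS F)⁻¹) = 1 := by
      rw [map_mul, map_mul, map_inv]; exact hk.symm
    have := (hker _ h').1
    simp only [Matrix.SpecialLinearGroup.coe_mul, stdS_inv_coe, stdX_inv_coe, stdS_coe, stdX_coe] at this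
    simp [Matrix.mul_apply,
      Fin.sum_univ_two] at this
  · have h' : slToPSL 2 F ((stdX F)⁻¹ * (stdS F * stdX F * (stdS F)⁻¹)) = 1 := by
      rw [map_mul, map_mul, map_mul, map_inv, map_inv, ← hk]; group
    have := hker _ h'
    simp only [Matrix.SpecialLinearGroup.coe_mul, stdS_inv_coe, stdX_inv_coe, stdS_coe, stdX_coe] at this
    simp [Matrix.mul_apply,
      Fin.sum_univ_two] at this
  · have h' : slToPSL 2 F (stdX F * (stdS F * stdX F * (stdS F)⁻¹)) = 1 := by
      rw [map_mul, map_mul, map_mul, map_inv, ← hk, ← mul_assoc]; exact hxx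
    have := hker _ h'
    simp only [Matrix.SpecialLinearGroup.coe_mul, stdS_inv_coe, stdX_inv_coe, stdS_coe, stdX_coe] at this
    simp [Matrix.mul_apply,
      Fin.sum_univ_two, h11, Ne.symm h11] at this
    exact h2 (by linear_combination -this)

/-- The recognition of `PSL(2, q)` and `PGL(2, q)`. -/
theorem main (hG : Hy G) [Nontrivial G] : Concl G := by
  classical
  haveI : Fact (Nat.Prime 2) := ⟨Nat.prime_two⟩
  set S : Sylow 2 G := default
  rcases dichotomy hG S with h | ⟨t, R, hD⟩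
  · exact h
  obtain ⟨N, hNn, hN1, hsimple⟩ := exists_simple_normal hG
  haveI := hNn
  haveI := hsimple
  haveI : Nontrivial ↥N := (Subgroup.nontrivial_iff_ne_bot N).2 hN1
  have hGN := hG.of_normal N
  obtain ⟨⟨i₀, hi₀N⟩, hi₀⟩ := exists_invol hGN
  rw [Subgroup.orderOf_mk] at hi₀
  have hCN : Subgroup.centralizer (N : Set G) = ⊥ := by
    haveI : (Subgroup.centralizer (N : Set G)).Normal := inferInstance
    exact eq_bot_of_le_centralizer hG inferInstance hi₀ fun m hm =>
      (Subgroup.mem_centralizer_iff.1 hm i₀ hi₀N).symm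
  obtain ⟨T, hT⟩ := exists_sylow_inf S N
  have hTc := not_cyclic_sylow hGN T
  haveI := hD.cyc
  -- an involution of `S ∩ N` outside `R`
  obtain ⟨e, heN, heS, heR⟩ : ∃ e, e ∈ N ∧ e ∈ (S : Subgroup G) ∧ e ∉ R := by
    by_contra h
    push Not at h
    apply hTc
    let f : (T : Subgroup ↥N) →* ↥R :=
      ((N.subtype).comp (T : Subgroup ↥N).subtype).codRestrict R fun x => h _ x.1.2 ((hT _).1 x.2)
    exact isCyclic_of_injective f fun a b hab =>
      Subtype.ext (Subtype.ext (congrArg (fun z : ↥R => (z : G)) hab : ((a.1 : ↥N) : G) = ((b.1 : ↥N) : G)))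
  obtain ⟨he2, heinv⟩ := hD.inv e heS heR
  have he1 : e ≠ 1 := fun h => heR (h ▸ one_mem R)
  have hsqR : ∀ r ∈ R, r * r ∈ N := by
    intro r hr
    have h1 : e * (r * e⁻¹ * r⁻¹) ∈ N := mul_mem heN (hNn.conj_mem _ (inv_mem heN) r)
    rw [show e * (r * e⁻¹ * r⁻¹) = (e * r * e⁻¹) * r⁻¹ by group, heinv r hr, ← mul_inv_rev] at h1
    exact inv_mem_iff.1 h1
  have hON : ∀ o ∈ oddC hG.toNc hD.ht, o ∈ N := by
    intro o ho
    have h1 : e * (o * e⁻¹ * o⁻¹) ∈ N := mul_mem heN (hNn.conj_mem _ (inv_mem heN) o)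
    rw [show e * (o * e⁻¹ * o⁻¹) = (e * o * e⁻¹) * o⁻¹ by group, hD.invO e heS heR o ho,
      ← mul_inv_rev, inv_mem_iff] at h1
    obtain ⟨k, hk⟩ := ho.1
    have h2 : o = ((o * o) ^ k)⁻¹ := by
      rw [eq_inv_iff_mul_eq_one, ← pow_two, ← pow_mul, ← pow_succ', ← hk, pow_orderOf_eq_one]
    rw [h2]
    exact inv_mem (pow_mem h1 k)
  -- `t ∈ N`
  obtain ⟨r₁, hr₁, hr₁N, hr₁1⟩ : ∃ r ∈ R, r ∈ N ∧ r ≠ 1 := by
    by_contra h
    push Not at h
    apply hTc
    have hall : ∀ x ∈ (T : Subgroup ↥N), x = 1 ∨ (x : G) = e := by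
      intro x hx
      by_cases hxR : (x : G) ∈ R
      · exact Or.inl (Subtype.ext (h _ hxR x.2))
      · right
        have h1 := h _ (hD.idx _ ((hT x).1 hx) hxR e heS heR) (mul_mem x.2 heN)
        rw [mul_eq_one_iff_eq_inv] at h1
        rw [h1, inv_eq_of_mul_eq_one_right he2]
    refine ⟨⟨⟨⟨e, heN⟩, (hT _).2 heS⟩, fun x => ?_⟩⟩
    rcases hall x.1 x.2 with h1 | h1
    · exact ⟨0, Subtype.ext (by simp [h1])⟩
    · exact ⟨1, Subtype.ext (Subtype.ext (by simpa using h1.symm))⟩
  have htN : t ∈ N := by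
    obtain ⟨j, hj, hjr⟩ := exists_invol_zpowers S.isPGroup' (hD.hRS hr₁) hr₁1
    rw [← hD.invol_eq (Subgroup.zpowers_le.2 hr₁ hjr) hj]
    exact Subgroup.zpowers_le.2 hr₁N hjr
  have ht1 : t ≠ 1 := fun h => by have := hD.ht; rw [h, orderOf_one] at this; omega
  have htt : t * t = 1 := by rw [← pow_two, ← hD.ht, pow_orderOf_eq_one]
  -- `G = N S`
  have hNS : ∀ g : G, ∃ n ∈ N, ∃ s ∈ (S : Subgroup G), g = n * s := by
    intro g
    have hg : g ∈ Subgroup.normalizer ((T : Subgroup ↥N).map N.subtype : Set G) ⊔ N :=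
      (Sylow.normalizer_sup_eq_top T).symm ▸ Subgroup.mem_top g
    obtain ⟨m, hm, n, hn, rfl⟩ := Subgroup.mem_sup_of_normal_right.1 hg
    have hTm : ∀ x : G, x ∈ N → x ∈ (S : Subgroup G) → m * x * m⁻¹ ∈ (S : Subgroup G) := by
      intro x hxN hxS
      obtain ⟨y, hy, hye⟩ := conj_mem_of_normalizer hm ⟨⟨x, hxN⟩, (hT _).2 hxS, rfl⟩
      exact hye ▸ (hT y).1 hy
    have hm' : ∃ p ∈ N, Commute (p * m) t := by
      by_cases hbig : ∃ r ∈ R, r ∈ N ∧ r * r ≠ 1
      · obtain ⟨r, hr, hrN, hr2⟩ := hbig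
        obtain ⟨m', -, hm4⟩ := exists_four S.isPGroup' (hD.hRS hr) hr2
        obtain ⟨h1, h2, h3⟩ := four_facts hm4
        have ht4 : r ^ 2 ^ m' * r ^ 2 ^ m' = t :=
          hD.invol_eq (mul_mem (pow_mem hr _) (pow_mem hr _)) h3
        set q := m * r ^ 2 ^ m' * m⁻¹ with hq
        have hqS : q ∈ (S : Subgroup G) := hTm _ (pow_mem hrN _) (pow_mem (hD.hRS hr) _)
        have hqq : q * q = m * t * m⁻¹ := by rw [hq, ← ht4]; group
        have hqR : q ∈ R := by
          by_contra h
          have := (hD.inv q hqS h).1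
          rw [hqq, conj_eq_one_iff] at this
          exact ht1 this
        refine ⟨1, one_mem N, ?_⟩
        rw [one_mul]
        refine mul_inv_eq_iff_eq_mul.1 (hD.invol_eq (hqq ▸ mul_mem hqR hqR) ?_)
        rw [show m * t * m⁻¹ = MulAut.conj m t from rfl, MulEquiv.orderOf_eq, hD.ht]
      · push Not at hbig
        -- all involutions of `S ∩ N` are conjugate in `N`
        have hfour : ∀ x ∈ N, x ∈ (S : Subgroup G) → x = 1 ∨ x = t ∨ x = e ∨ x = t * e := by
          intro x hxN hxS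
          have hRN : ∀ r ∈ R, r ∈ N → r = 1 ∨ r = t := fun r hr hrN => by
            by_cases h : r = 1
            · exact Or.inl h
            · exact Or.inr (hD.invol_eq hr (orderOf_eq_prime (by rw [pow_two, hbig r hr hrN]) h))
          by_cases hxR : x ∈ R
          · rcases hRN x hxR hxN with h | h
            · exact Or.inl h
            · exact Or.inr (Or.inl h)
          · have hxe := hD.idx x hxS hxR e heS heR
            have hx : x = x * e * e := by rw [mul_assoc, he2, mul_one]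
            rcases hRN _ hxe (mul_mem hxN heN) with h | h
            · exact Or.inr (Or.inr (Or.inl (by rw [hx, h, one_mul])))
            · exact Or.inr (Or.inr (Or.inr (by rw [hx, h])))
        have hte : Commute t e := (hD.central e heS).symm
        let conjN : G → G → Prop := fun a b => ∃ p ∈ N, p * a * p⁻¹ = b
        have hsymm : ∀ a b, conjN a b → conjN b a := fun a b ⟨p, hp, hpe⟩ =>
          ⟨p⁻¹, inv_mem hp, by rw [← hpe]; group⟩
        have hmove : ∀ x, x ∈ N → x ∈ (S : Subgroup G) → orderOf x = 2 →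
            ∃ y, (y = t ∨ y = e ∨ y = t * e) ∧ y ≠ x ∧ conjN x y := by
          intro x hxN hxS hx2
          obtain ⟨⟨p, hp⟩, hpS, hpne⟩ := not_isolated hGN T (t := ⟨x, hxN⟩)
            (by rw [Subgroup.orderOf_mk]; exact hx2) ((hT _).2 hxS)
          have hpS' : p * x * p⁻¹ ∈ (S : Subgroup G) := (hT _).1 hpS
          refine ⟨p * x * p⁻¹, ?_, fun h => hpne (Subtype.ext h), p, hp, rfl⟩
          rcases hfour _ (hNn.conj_mem x hxN p) hpS' with h | h
          · rw [conj_eq_one_iff] at h; rw [h, orderOf_one] at hx2; omega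
          · exact h
        have ho : ∀ x ∈ (S : Subgroup G), x ∉ R → orderOf x = 2 := fun x hx hxR =>
          orderOf_eq_prime (by rw [pow_two, (hD.inv x hx hxR).1]) (fun h => hxR (h ▸ one_mem R))
        have hteS : t * e ∈ (S : Subgroup G) := mul_mem (hD.hRS hD.htR) heS
        have hteR : t * e ∉ R := fun h => heR ((mul_mem_cancel_left hD.htR).1 h)
        have htrans : ∀ a b c, conjN a b → conjN b c → conjN a c :=
          fun a b c ⟨p, hp, h1⟩ ⟨q, hq, h2⟩ => ⟨q * p, mul_mem hq hp, by rw [← h2, ← h1]; group⟩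
        have hall : conjN e t ∧ conjN (t * e) t := by
          obtain ⟨y₁, hy₁, hy₁n, c₁⟩ := hmove t htN (hD.hRS hD.htR) hD.ht
          obtain ⟨y₂, hy₂, hy₂n, c₂⟩ := hmove e heN heS (ho e heS heR)
          obtain ⟨y₃, hy₃, hy₃n, c₃⟩ := hmove _ (mul_mem htN heN) hteS (ho _ hteS hteR)
          rcases hy₁ with rfl | rfl | rfl
          · exact absurd rfl hy₁n
          · refine ⟨hsymm _ _ c₁, ?_⟩
            rcases hy₃ with rfl | rfl | rfl
            · exact c₃
            · exact htrans _ _ _ c₃ (hsymm _ _ c₁)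
            · exact absurd rfl hy₃n
          · refine ⟨?_, hsymm _ _ c₁⟩
            rcases hy₂ with rfl | rfl | rfl
            · exact c₂
            · exact absurd rfl hy₂n
            · exact htrans _ _ _ c₂ (hsymm _ _ c₁)
        have hmt := hTm t htN (hD.hRS hD.htR)
        have hmain : conjN (m * t * m⁻¹) t := by
          rcases hfour _ (hNn.conj_mem t htN m) hmt with h | h | h | h
          · exact absurd (conj_eq_one_iff.1 h) ht1
          · exact h.symm ▸ ⟨1, one_mem N, by group⟩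
          · exact h.symm ▸ hall.1
          · exact h.symm ▸ hall.2
        obtain ⟨p, hp, hpe⟩ := hmain
        refine ⟨p, hp, mul_inv_eq_iff_eq_mul.1 ?_⟩
        calc p * m * t * (p * m)⁻¹ = p * (m * t * m⁻¹) * p⁻¹ := by group
          _ = t := hpe
    obtain ⟨p, hp, hpc⟩ := hm'
    obtain ⟨o, ho, s, hs, hos⟩ := exists_mul_of_commute hG.toNc S hD.ht hD.central hpc
    refine ⟨(p⁻¹ * o) * (s * n * s⁻¹), mul_mem (mul_mem (inv_mem hp) (hON o ho)) (hNn.conj_mem n hn s),
      s, hs, ?_⟩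
    calc m * n = p⁻¹ * (p * m) * n := by group
      _ = _ := by rw [hos]; group
  -- the structure of `N`
  set R₁ : Subgroup ↥N := R.subgroupOf N with hR₁
  set tN : ↥N := ⟨t, htN⟩ with htN'
  have htN2 : orderOf tN = 2 := by rw [htN', Subgroup.orderOf_mk]; exact hD.ht
  set eN : ↥N := ⟨e, heN⟩ with heN'
  have hR₁T : R₁ ≤ (T : Subgroup ↥N) := fun x hx => (hT x).2 (hD.hRS hx)
  haveI hR₁c : IsCyclic ↥R₁ := by
    let f : ↥R₁ →* ↥R := ((N.subtype).comp R₁.subtype).codRestrict R fun x => x.2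
    exact isCyclic_of_injective f fun a b hab =>
      Subtype.ext (Subtype.ext (congrArg (fun z : ↥R => (z : G)) hab : ((a.1 : ↥N) : G) = ((b.1 : ↥N) : G)))
  obtain ⟨⟨a, haR⟩, hagen⟩ := hR₁c.exists_generator
  set n := orderOf a with hn
  have hn2 : 2 ≤ n := by
    rw [hn]
    have h1 := Subgroup.orderOf_dvd_natCard R₁ (show tN ∈ R₁ from hD.htR)
    rw [htN2] at h1
    have h2 : Nat.card R₁ = orderOf a := by
      rw [← Subgroup.orderOf_mk a haR, orderOf_eq_card_of_forall_mem_zpowers hagen]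
    exact h2 ▸ Nat.le_of_dvd Nat.card_pos h1
  haveI : NeZero n := ⟨by omega⟩
  have hR₁a : ∀ x ∈ R₁, x ∈ Subgroup.zpowers a := fun x hx => by
    obtain ⟨i, hi⟩ := Subgroup.mem_zpowers_iff.1 (hagen ⟨x, hx⟩)
    exact Subgroup.mem_zpowers_iff.2 ⟨i, by simpa using congrArg Subtype.val hi⟩
  have heT : eN ∈ (T : Subgroup ↥N) := (hT _).2 heS
  have hTdih : Nonempty ((T : Subgroup ↥N) ≃* DihedralGroup n) := by
    refine nonempty_dihedral (a := ⟨a, hR₁T haR⟩) (e := ⟨eN, heT⟩) ?_ ?_ ?_ ?_ ?_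
    · rw [Subgroup.orderOf_mk]
    · exact Subtype.ext (Subtype.ext he2)
    · exact Subtype.ext (Subtype.ext (heinv _ haR))
    · intro h
      obtain ⟨i, hi⟩ := Subgroup.mem_zpowers_iff.1 h
      refine heR ?_
      have h1 : (a : G) ^ i = e := by simpa using congrArg (fun z => ((z.1 : ↥N) : G)) hi
      rw [← h1]
      exact zpow_mem haR i
    · intro x
      have key : ∀ y : (T : Subgroup ↥N), (y : ↥N) ∈ R₁ →
          y ∈ Subgroup.zpowers (⟨a, hR₁T haR⟩ : (T : Subgroup ↥N)) := by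
        intro y hy
        obtain ⟨i, hi⟩ := Subgroup.mem_zpowers_iff.1 (hR₁a _ hy)
        exact Subgroup.mem_zpowers_iff.2 ⟨i, Subtype.ext (by simpa using hi)⟩
      by_cases hx : (x : ↥N) ∈ R₁
      · exact Or.inl (key x hx)
      · exact Or.inr (key _ (hD.idx e heS heR _ ((hT _).1 x.2) hx))
  have htT : tN ∈ (T : Subgroup ↥N) := (hT _).2 (hD.hRS hD.htR)
  have htZ : ∀ s ∈ (T : Subgroup ↥N), s * tN = tN * s := fun s hs =>
    Subtype.ext (hD.central _ ((hT s).1 hs)).eq
  set O := oddC hGN.toNc htN2 with hOdef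
  have hmO : ∀ x : ↥N, x ∈ O ↔ (x : G) ∈ oddC hG.toNc hD.ht := fun x => by
    rw [mem_oddC, mem_oddC, Subgroup.orderOf_coe]
    refine and_congr_right fun _ => ?_
    constructor
    · intro h; exact congrArg Subtype.val h.eq
    · intro h; exact Subtype.ext h.eq
  have hOeq : O = (Cfsg.oddCore (Subgroup.centralizer ({tN} : Set ↥N))).map
      (Subgroup.centralizer ({tN} : Set ↥N)).subtype := by
    set C := Subgroup.centralizer ({tN} : Set ↥N)
    refine le_antisymm (fun x hx => ?_) ?_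
    · have hn' : (O.subgroupOf C).Normal := ⟨fun y hy g => oddC_normal_mem (hG := hGN.toNc) htN2
        (Subgroup.mem_centralizer_singleton_iff.1 g.2) hy⟩
      have hle : O ≤ C := fun y hy => Subgroup.mem_centralizer_singleton_iff.2 hy.2.eq
      refine ⟨⟨x, hle hx⟩, Grp.le_pPrimeCore hn' ?_ hx, rfl⟩
      rw [Nat.card_congr (Subgroup.subgroupOfEquivOfLe hle).toEquiv, Nat.coprime_two_right]
      exact odd_card_oddC htN2
    · rintro _ ⟨y, hy, rfl⟩
      refine ⟨?_, Subgroup.mem_centralizer_singleton_iff.1 y.2⟩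
      rw [Subgroup.coe_subtype, Subgroup.orderOf_coe]
      exact (Nat.coprime_two_right.1 Grp.pPrimeCore_coprime).of_dvd_nat
        (Subgroup.orderOf_dvd_natCard _ hy)
  have hcentO : ∀ x ∈ (T : Subgroup ↥N), x ∈ R₁ → x ∈ Subgroup.centralizer (O : Set ↥N) :=
    fun x _ hxR => Subgroup.mem_centralizer_iff.2 fun o ho =>
      Subtype.ext (hD.cR _ hxR _ ((hmO o).1 ho)).symm.eq
  have hTcent : O ≠ ⊥ → (T : Subgroup ↥N) ⊓ Subgroup.centralizer (O : Set ↥N) = R₁ := by
    intro hO
    refine le_antisymm (fun x hx => ?_) (fun x hx => ⟨hR₁T hx, hcentO x (hR₁T hx) hx⟩)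
    by_contra hxR
    obtain ⟨o, ho, ho1⟩ := (Subgroup.bot_or_exists_ne_one O).resolve_left hO
    have h1 := hD.invO _ ((hT x).1 hx.1) hxR _ ((hmO o).1 ho)
    have h2 : Commute (x : G) (o : G) :=
      (congrArg Subtype.val (Subgroup.mem_centralizer_iff.1 hx.2 o ho)).symm
    rw [h2.eq, mul_inv_cancel_right] at h1
    exact ho1 (Subtype.ext (odd_sq_ne_one ((hmO o).1 ho).1 (eq_inv_iff_mul_eq_one.1 h1)))
  obtain ⟨F, iF, iFF, hFodd, ⟨E⟩⟩ := Block.BSWRec.iso_psl_of_dihedral T n hn2 hTdih tN htN2 htT htZ O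
    hOeq
    (fun hO => by
      rw [hTcent hO]
      refine ⟨hR₁c, ?_⟩
      show (R₁.subgroupOf (T : Subgroup ↥N)).index = 2
      rw [Subgroup.index_eq_two_iff']
      refine ⟨⟨eN, heT⟩, fun b => ?_⟩
      simp only [Subgroup.mem_subgroupOf, hR₁, Subgroup.coe_mul, heN', xor_def]
      by_cases hb : ((b : ↥N) : G) ∈ R
      · exact Or.inr ⟨hb, fun h => heR ((mul_mem_cancel_right hb).1 h)⟩
      · exact Or.inl ⟨hD.idx _ heS heR _ ((hT _).1 b.2) hb, hb⟩)
    (fun s hs hsc y hy => Subtype.ext (hD.invO _ ((hT s).1 hs) (fun h => hsc (hcentO s hs h)) _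
      ((hmO y).1 hy)))
    (fun Y hY hY1 m hm => by
      obtain ⟨y, hy, hy1⟩ := (Subgroup.bot_or_exists_ne_one Y).resolve_left hY1
      rw [Subgroup.mem_centralizer_singleton_iff]
      exact Subtype.ext (hD.norm_le hG.toNc ((hmO y).1 (hY hy)) (fun h => hy1 (Subtype.ext h))
        ((hmO _).1 (hY (conj_mem_of_normalizer hm hy)))).eq)
  have hF3 : 3 ≤ Fintype.card F := by
    have h1 : 1 < Fintype.card F := Fintype.one_lt_card
    obtain ⟨k, hk⟩ := hFodd
    omega
  have hF2 : (2 : F) ≠ 0 := by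
    intro h2
    haveI : CharP F 2 := CharTwo.of_one_ne_zero_of_two_eq_zero one_ne_zero h2
    obtain ⟨k, -, hk⟩ := FiniteField.card F 2
    rw [hk] at hFodd
    exact Nat.not_even_iff_odd.2 hFodd (even_two.pow_of_ne_zero k.pos.ne')
  have hNns : ¬ Group.IsSolvable ↥N := fun h => hN1 (hG.ss N hNn h)
  have hF : 3 < Fintype.card F := by
    refine lt_of_le_of_ne hF3 fun h => hNns ?_
    have h12 : Nat.card ↥N ∣ 2 ^ 4 * 3 := by
      have h1 : Nat.card (GL (Fin 2) F) = 48 := by
        rw [Matrix.card_GL_field]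
        simp [Fin.prod_univ_two, ← h]
      have h2 : Nat.card (Matrix.SpecialLinearGroup (Fin 2) F) ∣ 48 := h1 ▸
        Subgroup.card_dvd_of_injective Matrix.SpecialLinearGroup.toGL
          (fun a b hab => Subtype.ext (congrArg (fun u : GL (Fin 2) F => (u : Matrix (Fin 2) (Fin 2) F)) hab))
      rw [Nat.card_congr E.toEquiv]
      exact dvd_trans (Subgroup.card_quotient_dvd_card _) (h2.trans (by norm_num))
    -- a group of order dividing 48 is solvable
    obtain ⟨d₁, d₂, h1, h2, hd⟩ := (Nat.dvd_mul).1 h12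
    obtain ⟨i, -, rfl⟩ := (Nat.dvd_prime_pow Nat.prime_two).1 h1
    obtain ⟨j, -, rfl⟩ := (Nat.dvd_prime_pow Nat.prime_three).1 (show d₂ ∣ 3 ^ 1 by simpa using h2)
    exact Cfsg.Agent.S0144.result 2 3 i j Nat.prime_two Nat.prime_three hd.symm
  by_cases hGN' : ∀ g : G, g ∈ N
  · exact ⟨F, iF, iFF, hF, Or.inl ⟨((Subgroup.topEquiv).symm.trans (MulEquiv.subgroupCongr
      (eq_top_iff.2 fun g _ => hGN' g).symm)).trans E⟩⟩
  -- an involution of `S` outside `N`
  obtain ⟨τ, hτS, hτR, hτN⟩ : ∃ τ ∈ (S : Subgroup G), τ ∉ R ∧ τ ∉ N := by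
    push Not at hGN'
    obtain ⟨g, hg⟩ := hGN'
    obtain ⟨n', hn', s, hs, rfl⟩ := hNS g
    have hsN : s ∉ N := fun h => hg (mul_mem hn' h)
    by_cases hsR : s ∈ R
    · exact ⟨e * s, mul_mem heS hs, fun h => heR ((mul_mem_cancel_right hsR).1 h),
        fun h => hsN ((mul_mem_cancel_left heN).1 h)⟩
    · exact ⟨s, hs, hsR, hsN⟩
  have hτ2 := (hD.inv τ hτS hτR).1
  have hτ1 : τ ≠ 1 := fun h => hτN (h ▸ one_mem N)
  have hτo : orderOf τ = 2 := orderOf_eq_prime (by rw [pow_two, hτ2]) hτ1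
  -- two cosets
  have hcos : ∀ g : G, g ∈ N ∨ g * τ ∈ N := by
    intro g
    obtain ⟨n', hn', s, hs, rfl⟩ := hNS g
    have key : ∀ r ∈ R, r ∈ N ∨ r * (τ * e) ∈ N := by
      intro r hr
      by_cases hrN : r ∈ N
      · exact Or.inl hrN
      right
      set q := τ * e with hq
      have hqR : q ∈ R := hD.idx τ hτS hτR e heS heR
      have hqN : q ∉ N := fun h => hτN ((mul_mem_cancel_right heN).1 h)
      obtain ⟨⟨c, hc⟩, hgen⟩ := hD.cyc.exists_generator
      have hpar : ∀ x ∈ R, x ∈ N ∨ x * c⁻¹ ∈ N := by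
        intro x hx
        obtain ⟨i, hi⟩ := Subgroup.mem_zpowers_iff.1 (hgen ⟨x, hx⟩)
        have hi' : c ^ i = x := by simpa using congrArg Subtype.val hi
        obtain ⟨j, rfl⟩ | ⟨j, rfl⟩ := Int.even_or_odd i
        · left
          rw [← hi', ← two_mul, zpow_mul, zpow_two]
          exact zpow_mem (hsqR c hc) j
        · right
          rw [← hi', zpow_add, zpow_one, mul_inv_cancel_right, zpow_mul, zpow_two]
          exact zpow_mem (hsqR c hc) j
      have h1 := (hpar r hr).resolve_left hrN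
      have h2 := (hpar q hqR).resolve_left hqN
      have h3 : r * c⁻¹ * (c * c) * (c⁻¹ * (q * c⁻¹) * c) ∈ N := by
        refine mul_mem (mul_mem h1 (hsqR c hc)) ?_
        have := hNn.conj_mem _ h2 c⁻¹
        rwa [inv_inv] at this
      convert h3 using 1
      group
    by_cases hsR : s ∈ R
    · rcases key s hsR with h | h
      · exact Or.inl (mul_mem hn' h)
      · right
        rw [mul_assoc]
        refine mul_mem hn' ?_
        have := mul_mem h (inv_mem heN)
        rwa [mul_assoc, mul_inv_cancel_right] at this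
    · rcases key _ (hD.idx s hs hsR e heS heR) with h | h
      · refine Or.inl (mul_mem hn' ?_)
        have := mul_mem h (inv_mem heN)
        rwa [mul_inv_cancel_right] at this
      · right
        rw [mul_assoc]
        refine mul_mem hn' ?_
        have h4 := mul_mem (mul_mem h (inv_mem heN)) (hNn.conj_mem _ (inv_mem heN) τ⁻¹)
        convert h4 using 1
        group
  -- the action on `N`
  set ι : G →* MulAut (Matrix.ProjectiveSpecialLinearGroup (Fin 2) F) :=
    (MulAut.congr E).toMonoidHom.comp MulAut.conjNormal with hι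
  have hιapp : ∀ (g : G) (x : ↥N), ι g (E x) = E (MulAut.conjNormal g x) := fun g x => by
    simp [hι, MulAut.congr]
  have hιinj : Function.Injective ι := by
    rw [← MonoidHom.ker_eq_bot_iff]
    rw [← le_bot_iff, ← hCN]
    intro g hg
    refine Subgroup.mem_centralizer_iff.2 fun x hx => ?_
    have h1 := hιapp g ⟨x, hx⟩
    rw [MonoidHom.mem_ker.1 hg, MulAut.one_apply] at h1
    have h2 := congrArg Subtype.val (E.injective h1)
    rw [MulAut.conjNormal_apply] at h2
    exact (mul_inv_eq_iff_eq_mul.1 h2.symm).symm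
  obtain ⟨p, hp⟩ := CharP.exists F
  haveI : Fact p.Prime := ⟨(CharP.char_is_prime_or_zero F p).resolve_right
    (CharP.char_ne_zero_of_finite F p)⟩
  obtain ⟨g, σ, ε, -, hε, hrep⟩ := exists_rep (p := p) le_rfl (ι τ)
  rw [hε rfl, pow_zero, mul_one] at hrep
  have hσ : σ = 1 := by
    by_contra hσ
    obtain ⟨-, y, hy⟩ := exists_conj_field le_rfl Nat.prime_two hσ
      (hrep ▸ (orderOf_injective ι hιinj τ).trans hτo)
    obtain ⟨hx3, hx1, hxs⟩ := std_facts hF2
    set Y := inndiagHom 2 F y with hY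
    have hfixed : ∀ z : SL(2, F), (∀ i j, σ ((z : Matrix (Fin 2) (Fin 2) F) i j) =
        (z : Matrix (Fin 2) (Fin 2) F) i j) → ι τ (Y (slToPSL 2 F z)) = Y (slToPSL 2 F z) := by
      intro z hz
      rw [hrep, hy, MulAut.mul_apply, MulAut.mul_apply, ← MulAut.mul_apply _ (Y⁻¹ : MulAut _), inv_mul_cancel,
        MulAut.one_apply, pslSemi_mk]
      congr 2
      refine Subtype.ext ?_
      rw [slSemi_coe]
      ext i j
      simp [hz i j]
    have hX : ∀ i j, σ ((stdX F : Matrix (Fin 2) (Fin 2) F) i j) = (stdX F : Matrix (Fin 2) (Fin 2) F) i j := by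
      intro i j; fin_cases i <;> fin_cases j <;> simp [stdX]
    have hS' : ∀ i j, σ ((stdS F : Matrix (Fin 2) (Fin 2) F) i j) = (stdS F : Matrix (Fin 2) (Fin 2) F) i j := by
      intro i j; fin_cases i <;> fin_cases j <;> simp [stdS]
    set x' := E.symm (Y (slToPSL 2 F (stdX F))) with hx'
    set s' := E.symm (Y (slToPSL 2 F (stdS F))) with hs'
    have hcom : ∀ z : ↥N, ι τ (E z) = E z → Commute (z : G) τ := by
      intro z hz
      rw [hιapp] at hz
      have := congrArg Subtype.val (E.injective hz)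
      rw [MulAut.conjNormal_apply] at this
      exact (mul_inv_eq_iff_eq_mul.1 this).symm
    have hcx : Commute (x' : G) τ := hcom x' (by rw [hx', E.apply_symm_apply]; exact hfixed _ hX)
    have hcs : Commute (s' : G) τ := hcom s' (by rw [hs', E.apply_symm_apply]; exact hfixed _ hS')
    have hox : orderOf (x' : G) = 3 := by
      rw [Subgroup.orderOf_coe, hx', MulEquiv.orderOf_eq, MulEquiv.orderOf_eq]
      refine orderOf_eq_prime ?_ hx1
      rw [show (3 : ℕ) = 2 + 1 from rfl, pow_succ, pow_two, hx3]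
    obtain ⟨k, hk : (x' : G) ^ k = (s' : G) * x' * (s' : G)⁻¹⟩ :=
      odd_conj_mem hG.toNc hτo (hox ▸ (by decide : Odd 3)) hcx hcs
    apply hxs
    refine ⟨k, ?_⟩
    have h1 : x' ^ k = s' * x' * s'⁻¹ := Subtype.ext (by simpa using hk)
    have h2 := congrArg (fun z => Y.symm (E z)) h1
    simpa [hx', hs'] using h2
  subst hσ
  -- the image is `PGL`
  set D := (inndiagHom 2 F).range with hDdef
  have hτD : ι τ ∈ D := ⟨g, by rw [inndiagHom_apply, hrep]; rfl⟩
  have hιN : ∀ x : ↥N, ι (x : G) = MulAut.conj (E x) := by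
    intro x
    refine MulEquiv.ext fun z => ?_
    obtain ⟨z, rfl⟩ := E.surjective z
    rw [hιapp, MulAut.conj_apply, ← map_inv, ← map_mul, ← map_mul]
    exact congrArg E (Subtype.ext (by rw [MulAut.conjNormal_apply]; simp))
  have hInnD : Cfsg.Inn (Matrix.ProjectiveSpecialLinearGroup (Fin 2) F) ≤ D := by
    rintro _ ⟨z, rfl⟩
    obtain ⟨s, rfl⟩ := slToPSL_surjective z
    exact ⟨Matrix.SpecialLinearGroup.toGL s, by rw [inndiagHom_apply, conj_eq_pslSemi]⟩
  have hle : ι.range ≤ D := by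
    rintro _ ⟨x, rfl⟩
    rcases hcos x with h | h
    · rw [show x = ((⟨x, h⟩ : ↥N) : G) from rfl, hιN]; exact hInnD ⟨_, rfl⟩
    · have : ι (x * τ) ∈ D := by
        rw [show x * τ = ((⟨x * τ, h⟩ : ↥N) : G) from rfl, hιN]; exact hInnD ⟨_, rfl⟩
      rw [map_mul] at this
      exact (mul_mem_cancel_right hτD).1 this
  have hge : D ≤ ι.range := by
    intro d hd
    have hInnι : ∀ w ∈ Cfsg.Inn (Matrix.ProjectiveSpecialLinearGroup (Fin 2) F), w ∈ ι.range := by
      rintro _ ⟨z, rfl⟩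
      exact ⟨(E.symm z : G), by rw [hιN, E.apply_symm_apply]⟩
    set π := QuotientGroup.mk' (Cfsg.Inn (Matrix.ProjectiveSpecialLinearGroup (Fin 2) F))
    obtain ⟨-, hcard⟩ := outDiag (F := F) (n := 2) le_rfl
    have hq : Nat.gcd 2 (Fintype.card F - 1) = 2 := by
      obtain ⟨k, hk⟩ := hFodd
      exact Nat.gcd_eq_left ⟨k, by omega⟩
    rw [hq] at hcard
    obtain ⟨x, y, hxy, hall⟩ := Nat.card_eq_two_iff.1 hcard
    have hτout : π (ι τ) ≠ 1 := by
      intro h
      obtain ⟨z, hz⟩ := (QuotientGroup.eq_one_iff (ι τ)).1 h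
      apply hτN
      have : ι ((E.symm z : ↥N) : G) = ι τ := by rw [hιN, E.apply_symm_apply, hz]
      rw [← hιinj this]
      exact (E.symm z).2
    have hsub : ∀ q ∈ D.map π, q = 1 ∨ q = π (ι τ) := by
      intro q hq'
      have hx' := Set.eq_univ_iff_forall.1 hall ⟨q, hq'⟩
      have h1 := Set.eq_univ_iff_forall.1 hall ⟨1, one_mem _⟩
      have hτ' := Set.eq_univ_iff_forall.1 hall ⟨π (ι τ), ⟨_, hτD, rfl⟩⟩
      simp only [Set.mem_insert_iff, Set.mem_singleton_iff] at hx' h1 hτ'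
      rcases h1 with h1 | h1 <;> rcases hτ' with h2 | h2 <;>
        first
          | exact absurd (congrArg Subtype.val (h2.trans h1.symm)) hτout
          | (rcases hx' with h3 | h3
             · first
                 | exact Or.inl (congrArg Subtype.val (h3.trans h1.symm))
                 | exact Or.inr (congrArg Subtype.val (h3.trans h2.symm))
             · first
                 | exact Or.inl (congrArg Subtype.val (h3.trans h1.symm))
                 | exact Or.inr (congrArg Subtype.val (h3.trans h2.symm)))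
    rcases hsub (π d) ⟨d, hd, rfl⟩ with h | h
    · exact hInnι d ((QuotientGroup.eq_one_iff d).1 h)
    · have h' : d * (ι τ)⁻¹ ∈ Cfsg.Inn (Matrix.ProjectiveSpecialLinearGroup (Fin 2) F) :=
        (QuotientGroup.eq_one_iff _).1 (by
          show π (d * (ι τ)⁻¹) = 1
          rw [map_mul, map_inv, h, mul_inv_cancel])
      have := mul_mem (hInnι _ h') (show ι τ ∈ ι.range from ⟨τ, rfl⟩)
      rwa [inv_mul_cancel_right] at this
  let e₁ : G ≃* D := (MonoidHom.ofInjective hιinj).trans (MulEquiv.subgroupCongr (le_antisymm hle hge))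
  let e₂ : Matrix.ProjGenLinGroup (Fin 2) F ≃* D :=
    (QuotientGroup.quotientMulEquivOfEq (ker_inndiagHom le_rfl).symm).trans
      (QuotientGroup.quotientKerEquivRange (inndiagHom 2 F))
  exact ⟨F, iF, iFF, hF, Or.inr ⟨e₁.trans e₂.symm⟩⟩

end Cfsg.Agent.Transfer.NormCyc
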