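import Mathlib
import Cfsg.Prelude

/-!
Groups in which the nontrivial subgroups of a cyclic subgroup of even order all have the same
normalizer: centralizers of involutions.
-/

set_option autoImplicit false
set_option linter.unusedSectionVars false

namespace Cfsg.Agent.Transfer.NormCyc

universe u

/-- All nontrivial subgroups of a cyclic subgroup of even order have the same normalizer. -/
structure Nc (G : Type u) [Group G] : Prop where
  norm : ∀ X : Subgroup G, IsCyclic ↥X → Even (Nat.card ↥X) → ∀ Y : Subgroup G, Y ≤ X → Y ≠ ⊥ →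
    Subgroup.normalizer (X : Set G) = Subgroup.normalizer (Y : Set G)

/-- The hypotheses of the recognition theorem, with solvability of groups of odd order. -/
structure Hy (G : Type u) [Group G] : Prop extends Nc G where
  ss : ∀ N : Subgroup G, N.Normal → Group.IsSolvable ↥N → N = ⊥
  ft : ∀ (K : Type u) [Group K] [Finite K], Odd (Nat.card K) → Group.IsSolvable K

variable {G : Type u} [Group G] [Finite G]

theorem centralizer_le_normalizer_zpowers (t : G) :
    Subgroup.centralizer ({t} : Set G) ≤ Subgroup.normalizer (Subgroup.zpowers t : Set G) := by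
  intro g hg
  rw [Subgroup.mem_centralizer_singleton_iff] at hg
  have hc : ∀ x ∈ Subgroup.zpowers t, g * x * g⁻¹ = x := by
    rintro _ ⟨k, rfl⟩
    exact mul_inv_eq_of_eq_mul ((show Commute g t from hg).zpow_right k).eq
  rw [Subgroup.mem_normalizer_iff]
  intro x
  refine ⟨fun hx => (hc x hx).symm ▸ hx, fun hx => ?_⟩
  have := hc _ hx
  rw [show x = g⁻¹ * (g * x * g⁻¹) * g by group]
  nth_rw 1 [← this]
  simpa [mul_assoc] using hx

theorem normalizer_zpowers_invol {t : G} (ht : orderOf t = 2) :
    Subgroup.normalizer (Subgroup.zpowers t : Set G) = Subgroup.centralizer ({t} : Set G) := by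
  refine le_antisymm (fun g hg => ?_) (centralizer_le_normalizer_zpowers t)
  rw [Subgroup.mem_centralizer_singleton_iff]
  classical
  have h1 := (Subgroup.mem_normalizer_iff.1 hg t).1 (Subgroup.mem_zpowers t)
  obtain ⟨k, hk⟩ := mem_zpowers_iff_mem_range_orderOf.1 h1 |> Finset.mem_image.1
  rw [ht, Finset.mem_range] at hk
  obtain ⟨hk2, hk⟩ := hk
  interval_cases k
  · rw [pow_zero] at hk
    have := (conj_eq_one_iff.1 hk.symm)
    rw [this, orderOf_one] at ht
    omega
  · rw [pow_one] at hk
    exact eq_mul_of_mul_inv_eq hk.symm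

/-- Conjugation mapping a cyclic subgroup into itself normalises it. -/
theorem mem_normalizer_zpowers {g y : G} (h : g * y * g⁻¹ ∈ Subgroup.zpowers y) :
    g ∈ Subgroup.normalizer (Subgroup.zpowers y : Set G) := by
  have hle : (Subgroup.zpowers y).map (MulAut.conj g).toMonoidHom ≤ Subgroup.zpowers y := by
    rw [MonoidHom.map_zpowers, Subgroup.zpowers_le]
    exact h
  have heq := Subgroup.eq_of_le_of_card_ge hle
    (by rw [Subgroup.card_map_of_injective (MulAut.conj g).injective])
  rw [Subgroup.mem_normalizer_iff]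
  intro x
  refine ⟨fun hx => hle ⟨x, hx, rfl⟩, fun hx => ?_⟩
  rw [← heq] at hx
  obtain ⟨z, hz, hzx⟩ := hx
  have : z = x := (MulAut.conj g).injective hzx
  rwa [← this]

theorem conj_mem_of_normalizer {g : G} {H : Subgroup G}
    (h : g ∈ Subgroup.normalizer (H : Set G)) {x : G} (hx : x ∈ H) : g * x * g⁻¹ ∈ H :=
  (Subgroup.mem_normalizer_iff.1 h x).1 hx

/-- An involution is a power of its product with a commuting element of odd order. -/
theorem invol_mem_zpowers_mul {x t : G} (ht : orderOf t = 2) (hx : Odd (orderOf x))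
    (hc : Commute x t) : t ∈ Subgroup.zpowers (x * t) ∧ x ∈ Subgroup.zpowers (x * t) := by
  have h1 : (x * t) ^ orderOf x = t := by
    obtain ⟨k, hk⟩ := hx
    rw [hc.mul_pow, pow_orderOf_eq_one, one_mul, hk, pow_succ, pow_mul,
      show t ^ 2 = 1 from ht ▸ pow_orderOf_eq_one t, one_pow, one_mul]
  have h2 : t ∈ Subgroup.zpowers (x * t) := by
    have := Subgroup.pow_mem _ (Subgroup.mem_zpowers (x * t)) (orderOf x)
    rwa [h1] at this
  refine ⟨h2, ?_⟩
  have := mul_mem (Subgroup.mem_zpowers (x * t)) (inv_mem h2)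
  rwa [mul_inv_cancel_right] at this

section

variable (hG : Nc G)
include hG

theorem norm_eq {x y t : G} (ht : orderOf t = 2) (htx : t ∈ Subgroup.zpowers x)
    (hy : y ∈ Subgroup.zpowers x) (hy1 : y ≠ 1) :
    Subgroup.normalizer (Subgroup.zpowers y : Set G) = Subgroup.centralizer ({t} : Set G) := by
  have heven : Even (Nat.card (Subgroup.zpowers x)) := by
    rw [even_iff_two_dvd, ← ht]
    exact Subgroup.orderOf_dvd_natCard _ htx
  have ht1 : t ≠ 1 := fun h => by rw [h, orderOf_one] at ht; omega
  have h1 := hG.norm _ inferInstance heven _ (Subgroup.zpowers_le.2 hy)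
    (by rwa [Ne, Subgroup.zpowers_eq_bot])
  have h2 := hG.norm _ inferInstance heven _ (Subgroup.zpowers_le.2 htx)
    (by rwa [Ne, Subgroup.zpowers_eq_bot])
  rw [← h1, h2, normalizer_zpowers_invol ht]

theorem conj_mem_zpowers {x y t g : G} (ht : orderOf t = 2) (htx : t ∈ Subgroup.zpowers x)
    (hy : y ∈ Subgroup.zpowers x) (hg : Commute g t) : g * y * g⁻¹ ∈ Subgroup.zpowers y := by
  by_cases hy1 : y = 1
  · rw [hy1]; simp
  refine conj_mem_of_normalizer ?_ (Subgroup.mem_zpowers y)
  rw [norm_eq hG ht htx hy hy1]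
  exact Subgroup.mem_centralizer_singleton_iff.2 hg.eq

theorem commute_of_conj_mem {x y t g : G} (ht : orderOf t = 2) (htx : t ∈ Subgroup.zpowers x)
    (hy : y ∈ Subgroup.zpowers x) (hy1 : y ≠ 1) (hg : g * y * g⁻¹ ∈ Subgroup.zpowers y) :
    Commute g t := by
  have := mem_normalizer_zpowers hg
  rw [norm_eq hG ht htx hy hy1] at this
  exact Subgroup.mem_centralizer_singleton_iff.1 this

theorem odd_conj_mem {x t g : G} (ht : orderOf t = 2) (hx : Odd (orderOf x)) (hc : Commute x t)
    (hg : Commute g t) : g * x * g⁻¹ ∈ Subgroup.zpowers x :=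
  conj_mem_zpowers hG ht (invol_mem_zpowers_mul ht hx hc).1 (invol_mem_zpowers_mul ht hx hc).2 hg

theorem odd_commute_of_conj_mem {x t g : G} (ht : orderOf t = 2) (hx : Odd (orderOf x))
    (hx1 : x ≠ 1) (hc : Commute x t) (hg : g * x * g⁻¹ ∈ Subgroup.zpowers x) : Commute g t :=
  commute_of_conj_mem hG ht (invol_mem_zpowers_mul ht hx hc).1 (invol_mem_zpowers_mul ht hx hc).2
    hx1 hg

/-- An involution centralising a nontrivial element of odd order commuting with `t` has the same
centralizer as `t`. -/
theorem commute_iff_of_odd {x t s g : G} (ht : orderOf t = 2) (hs : orderOf s = 2)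
    (hx : Odd (orderOf x)) (hx1 : x ≠ 1) (hct : Commute x t) (hcs : Commute x s) :
    Commute g t ↔ Commute g s :=
  ⟨fun h => odd_commute_of_conj_mem hG hs hx hx1 hcs (odd_conj_mem hG ht hx hct h),
    fun h => odd_commute_of_conj_mem hG ht hx hx1 hct (odd_conj_mem hG hs hx hcs h)⟩

end

theorem pow_mul_mem {H : Subgroup G} {y : G} (hy : y ∈ Subgroup.normalizer (H : Set G)) {x : G}
    (hx : x ∈ H) : ∀ k : ℕ, (x * y) ^ k * (y ^ k)⁻¹ ∈ H := by
  intro k
  induction k with
  | zero => simp
  | succ k ih =>
    have hk : y ^ k ∈ Subgroup.normalizer (H : Set G) := pow_mem hy k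
    have := H.mul_mem ih (conj_mem_of_normalizer hk hx)
    rw [pow_succ, pow_succ, mul_inv_rev]
    convert this using 1
    group

/-- Power of a product when the commutator is central. -/
theorem pow_mul_central {x z d : G} (hd : z * x = d * x * z) (hdx : Commute d x) (hdz : Commute d z) :
    ∀ n : ℕ, (x * z) ^ n = x ^ n * z ^ n * d ^ n.choose 2 := by
  have hzn : ∀ n : ℕ, z ^ n * x = d ^ n * x * z ^ n := by
    intro n
    induction n with
    | zero => simp
    | succ n ih =>
      calc z ^ (n + 1) * x = z ^ n * (z * x) := by rw [pow_succ, mul_assoc]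
        _ = z ^ n * (d * x * z) := by rw [hd]
        _ = z ^ n * d * (x * z) := by group
        _ = d * z ^ n * (x * z) := by rw [(hdz.pow_right n).eq]
        _ = d * (z ^ n * x) * z := by group
        _ = d * (d ^ n * x * z ^ n) * z := by rw [ih]
        _ = d ^ (n + 1) * x * z ^ (n + 1) := by rw [pow_succ', pow_succ]; group
  intro n
  induction n with
  | zero => simp
  | succ n ih =>
    rw [pow_succ, ih, Nat.choose_succ_succ' n 1, Nat.choose_one_right, pow_add,
      pow_succ x, pow_succ z]
    have h1 : Commute (d ^ n.choose 2) (x * z) :=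
      ((hdx.mul_right hdz).pow_left _)
    calc x ^ n * z ^ n * d ^ n.choose 2 * (x * z)
        = x ^ n * (z ^ n * x) * z * d ^ n.choose 2 := by
          rw [mul_assoc _ (d ^ n.choose 2), h1.eq]; group
      _ = x ^ n * (d ^ n * x * z ^ n) * z * d ^ n.choose 2 := by rw [hzn]
      _ = x ^ n * (x * z ^ n * z) * d ^ n * d ^ n.choose 2 := by
          have : Commute (d ^ n) (x * z ^ n * z) :=
            ((hdx.mul_right (hdz.pow_right n)).mul_right hdz).pow_left n
          rw [show x ^ n * (d ^ n * x * z ^ n) * z = x ^ n * (d ^ n * (x * z ^ n * z)) by group,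
            this.eq]
          group
      _ = _ := by group

/-- In a cyclic group `⟨y⟩` of prime power order, elements of order dividing `p` are powers of
`y ^ p ^ (b - 1)`. -/
theorem mem_of_pow_prime_eq_one {p b : ℕ} (hp : p.Prime) {y c : G} (hy : orderOf y = p ^ (b + 1))
    (hc : c ∈ Subgroup.zpowers y) (hcp : c ^ p = 1) : ∃ i : ℕ, c = (y ^ p ^ b) ^ i := by
  classical
  obtain ⟨k, -, rfl⟩ := Finset.mem_image.1 (mem_zpowers_iff_mem_range_orderOf.1 hc)
  rw [← pow_mul] at hcp
  have h1 := orderOf_dvd_of_pow_eq_one hcp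
  rw [hy, pow_succ] at h1
  obtain ⟨i, hi⟩ : p ^ b ∣ k := Nat.dvd_of_mul_dvd_mul_right hp.pos h1
  exact ⟨i, by rw [← pow_mul, ← hi]⟩

section

variable {hG : Nc G}

/-- The elements of odd order in the centralizer of an involution. -/
def oddC (hG : Nc G) {t : G} (ht : orderOf t = 2) : Subgroup G where
  carrier := {x | Odd (orderOf x) ∧ Commute x t}
  one_mem' := ⟨by rw [orderOf_one]; exact odd_one, Commute.one_left t⟩
  inv_mem' := fun {x} hx => ⟨by rw [orderOf_inv]; exact hx.1, hx.2.inv_left⟩
  mul_mem' := fun {x y} hx hy => by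
    refine ⟨?_, hx.2.mul_left hy.2⟩
    have hn : y ∈ Subgroup.normalizer (Subgroup.zpowers x : Set G) :=
      mem_normalizer_zpowers (odd_conj_mem hG ht hx.1 hx.2 hy.2)
    have h1 := pow_mul_mem hn (Subgroup.mem_zpowers x) (orderOf y)
    rw [pow_orderOf_eq_one, inv_one, mul_one] at h1
    have h2 : ((x * y) ^ orderOf y) ^ orderOf x = 1 :=
      orderOf_dvd_iff_pow_eq_one.1 (by
        have := Subgroup.orderOf_dvd_natCard _ h1
        rwa [Nat.card_zpowers] at this)
    rw [← pow_mul] at h2
    exact (hy.1.mul hx.1).of_dvd_nat (orderOf_dvd_of_pow_eq_one h2)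

theorem mem_oddC {t : G} (ht : orderOf t = 2) {x : G} :
    x ∈ oddC hG ht ↔ Odd (orderOf x) ∧ Commute x t := Iff.rfl

theorem oddC_normal_mem {t : G} (ht : orderOf t = 2) {g x : G} (hg : Commute g t)
    (hx : x ∈ oddC hG ht) : g * x * g⁻¹ ∈ oddC hG ht := by
  refine ⟨?_, ?_⟩
  · rw [show g * x * g⁻¹ = MulAut.conj g x from rfl, MulEquiv.orderOf_eq]
    exact hx.1
  · exact (hg.mul_left hx.2).mul_left hg.inv_left

theorem odd_card_oddC {t : G} (ht : orderOf t = 2) : Odd (Nat.card (oddC hG ht)) := by
  rw [← Nat.not_even_iff_odd, even_iff_two_dvd]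
  intro h
  haveI : Fact (Nat.Prime 2) := ⟨Nat.prime_two⟩
  obtain ⟨⟨x, hx⟩, hx2⟩ := exists_prime_orderOf_dvd_card' 2 h
  rw [Subgroup.orderOf_mk] at hx2
  have := hx.1
  rw [hx2] at this
  exact absurd this (by decide)

/-- Elements of odd order commuting with an involution commute with each other. -/
theorem oddC_comm (hG : Nc G) {t : G} (ht : orderOf t = 2) :
    ∀ x ∈ oddC hG ht, ∀ y ∈ oddC hG ht, Commute x y := by
  suffices ∀ n : ℕ, ∀ x y : G, orderOf x + orderOf y ≤ n → x ∈ oddC hG ht → y ∈ oddC hG ht →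
      Commute x y from fun x hx y hy => this _ x y le_rfl hx hy
  intro n
  induction n using Nat.strong_induction_on with
  | h n ih =>
    intro x y hn hx hy
    have key : ∀ x y : G, x ∈ oddC hG ht → y ∈ oddC hG ht → orderOf x + orderOf y ≤ n →
        orderOf x ≤ orderOf y → Commute y x := by
      intro x y hx hy hn hle
      by_contra hne
      have hxy : ¬ Commute x y := fun h => hne h.symm
      set c := x * y * x⁻¹ * y⁻¹ with hc
      have hcy : c ∈ Subgroup.zpowers y :=
        mul_mem (odd_conj_mem hG ht hy.1 hy.2 hx.2) (inv_mem (Subgroup.mem_zpowers y))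
      have hcx : c ∈ Subgroup.zpowers x := by
        have h := mul_mem (Subgroup.mem_zpowers x)
          (odd_conj_mem hG ht hx.1 hx.2 hy.2 |> inv_mem)
        convert h using 1
        rw [hc]; group
      have hcX : Commute c x := by
        obtain ⟨k, hk : x ^ k = c⟩ := hcx
        exact hk ▸ Commute.zpow_self x k
      have hcY : Commute c y := by
        obtain ⟨k, hk : y ^ k = c⟩ := hcy
        exact hk ▸ Commute.zpow_self y k
      have hd : x * y = c * y * x := by rw [hc]; group
      have hc1 : c ≠ 1 := fun h => hxy (by rw [h, one_mul] at hd; exact hd)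
      -- proper powers commute
      have hprop : ∀ p : ℕ, p.Prime → p ∣ orderOf x → Commute (x ^ p) y := by
        intro p hp hpd
        have hlt : orderOf (x ^ p) < orderOf x := by
          rw [orderOf_pow_of_dvd hp.ne_zero hpd]
          exact Nat.div_lt_self (orderOf_pos x) hp.one_lt
        exact ih _ (by omega) (x ^ p) y le_rfl (pow_mem hx p) hy
      have hpropy : ∀ p : ℕ, p.Prime → p ∣ orderOf y → Commute x (y ^ p) := by
        intro p hp hpd
        have hlt : orderOf (y ^ p) < orderOf y := by
          rw [orderOf_pow_of_dvd hp.ne_zero hpd]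
          exact Nat.div_lt_self (orderOf_pos y) hp.one_lt
        exact ih _ (by omega) x (y ^ p) le_rfl hx (pow_mem hy p)
      obtain ⟨p, hp, hpx⟩ := Nat.exists_prime_and_dvd (show orderOf x ≠ 1 from fun h =>
        hxy (by rw [orderOf_eq_one_iff.1 h]; exact Commute.one_left y))
      have hcp : c ^ p = 1 := by
        have h1 : ∀ k : ℕ, x ^ k * y = c ^ k * y * x ^ k := by
          intro k
          induction k with
          | zero => simp
          | succ k ihk =>
            calc x ^ (k + 1) * y = x * (x ^ k * y) := by rw [pow_succ', mul_assoc]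
              _ = x * (c ^ k * y * x ^ k) := by rw [ihk]
              _ = x * c ^ k * (y * x ^ k) := by group
              _ = c ^ k * x * (y * x ^ k) := by rw [(hcX.symm.pow_right k).eq]
              _ = c ^ k * (x * y) * x ^ k := by group
              _ = c ^ k * (c * y * x) * x ^ k := by rw [hd]
              _ = c ^ (k + 1) * y * x ^ (k + 1) := by rw [pow_succ, pow_succ']; group
        have h2 := h1 p
        rw [(hprop p hp hpx).eq] at h2
        exact (mul_eq_right.1 (mul_right_cancel h2.symm))
      have hco : orderOf c = p := orderOf_eq_prime (hp := ⟨hp⟩) hcp hc1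
      have hpy : p ∣ orderOf y := hco ▸ (by
        have := Subgroup.orderOf_dvd_natCard _ hcy
        rwa [Nat.card_zpowers] at this)
      -- both orders are powers of `p`
      have pw : ∀ z : G, p ∣ orderOf z →
          (∀ q : ℕ, q.Prime → q ∣ orderOf z → q = p) → ∃ a, orderOf z = p ^ (a + 1) := by
        intro z hz hq
        have h := Nat.eq_prime_pow_of_unique_prime_dvd (orderOf_pos z).ne' (p := p)
          (fun {d} hd hdd => hq d hd hdd)
        refine ⟨(orderOf z).primeFactorsList.length - 1, ?_⟩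
        rcases Nat.eq_zero_or_pos (orderOf z).primeFactorsList.length with h0 | h0
        · rw [h0, pow_zero] at h
          rw [h] at hz
          exact absurd (Nat.dvd_one.1 hz) hp.one_lt.ne'
        · rwa [Nat.sub_add_cancel h0]
      have hcomb : ∀ (z w : G) (q : ℕ), q.Prime → q ≠ p → Commute (z ^ p) w → Commute (z ^ q) w →
          Commute z w := by
        intro z w q hq hqp h1 h2
        have hcop : IsCoprime (p : ℤ) (q : ℤ) := Int.isCoprime_iff_nat_coprime.2
          ((Nat.coprime_primes hp hq).2 (Ne.symm hqp))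
        obtain ⟨a, b, hab⟩ := hcop
        have e : z = (z ^ p) ^ a * (z ^ q) ^ b := by
          rw [← zpow_natCast z p, ← zpow_natCast z q, ← zpow_mul, ← zpow_mul, ← zpow_add,
            mul_comm (p : ℤ), mul_comm (q : ℤ), hab, zpow_one]
        rw [e]
        exact (h1.zpow_left a).mul_left (h2.zpow_left b)
      obtain ⟨a, ha⟩ := pw x hpx fun q hq hqd => by
        by_contra hqp
        exact hxy (hcomb x y q hq hqp (hprop p hp hpx) (hprop q hq hqd))
      obtain ⟨b, hb⟩ := pw y hpy fun q hq hqd => by
        by_contra hqp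
        exact hxy (hcomb y x q hq hqp (hpropy p hp hpy).symm (hpropy q hq hqd).symm).symm
      rw [ha, hb] at hle
      have hab : a ≤ b := by
        have := (Nat.pow_le_pow_iff_right hp.one_lt).1 hle
        omega
      -- `c` generates both subgroups of order `p`
      obtain ⟨i, hi⟩ := mem_of_pow_prime_eq_one hp hb hcy hcp
      obtain ⟨j, hj⟩ := mem_of_pow_prime_eq_one hp ha hcx hcp
      have hjp : ¬ p ∣ j := by
        rintro ⟨r, rfl⟩
        apply hc1
        rw [hj, ← pow_mul, show p ^ a * (p * r) = p ^ (a + 1) * r by rw [pow_succ]; ring, pow_mul,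
          ← ha, pow_orderOf_eq_one, one_pow]
      obtain ⟨j', hj'⟩ : ∃ j' : ℕ, x ^ p ^ a = c ^ j' := by
        obtain ⟨j', hj'⟩ := Nat.exists_mul_mod_eq_one_of_coprime ((hp.coprime_iff_not_dvd.2 hjp).symm)
          hp.one_lt
        refine ⟨j', ?_⟩
        rw [hj, ← pow_mul (x ^ p ^ a)]
        conv_lhs => rw [← pow_one (x ^ p ^ a)]
        refine pow_eq_pow_iff_modEq.2 ?_
        have ho : orderOf (x ^ p ^ a) = p := by
          rw [orderOf_pow_of_dvd (pow_ne_zero _ hp.ne_zero) (ha ▸ pow_dvd_pow p (Nat.le_succ a)), ha,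
            Nat.pow_div (Nat.le_succ a) hp.pos]
          simp
        rw [ho]
        show 1 % p = j * j' % p
        rw [hj'.2, Nat.one_mod_eq_one.2 hp.one_lt.ne']
      set z := (y ^ (i * j' * p ^ (b - a)))⁻¹ with hz
      by_cases ha0 : a = 0
      · subst ha0
        apply hxy
        have hx' : x = c ^ j' := by rw [← hj', pow_zero, pow_one]
        rw [hx']
        exact hcY.pow_left j'
      have hzy : Commute y z := (Commute.pow_self y _).symm.inv_right
      set d := z * x * z⁻¹ * x⁻¹ with hdd
      have hdp : z * x = d * x * z := by rw [hdd]; group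
      -- `d` is a power of `c`
      have hdc : ∃ k : ℤ, d = c ^ k := by
        have h1 : ∀ k : ℕ, y ^ k * x * (y ^ k)⁻¹ * x⁻¹ = (c ^ k)⁻¹ := by
          intro k
          induction k with
          | zero => simp
          | succ k ihk =>
            have e1 : y * x * y⁻¹ = c⁻¹ * x := by
              rw [eq_inv_mul_iff_mul_eq, hc]; group
            calc y ^ (k + 1) * x * (y ^ (k + 1))⁻¹ * x⁻¹
                = y * (y ^ k * x * (y ^ k)⁻¹ * x⁻¹ * x) * y⁻¹ * x⁻¹ := by rw [pow_succ']; group
              _ = y * ((c ^ k)⁻¹ * x) * y⁻¹ * x⁻¹ := by rw [ihk]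
              _ = (c ^ k)⁻¹ * (y * x * y⁻¹) * x⁻¹ := by
                  rw [show y * ((c ^ k)⁻¹ * x) = (y * (c ^ k)⁻¹) * x by group,
                    ((hcY.pow_left k).inv_left.symm).eq]
                  group
              _ = (c ^ (k + 1))⁻¹ := by rw [e1, pow_succ']; group
        set m := i * j' * p ^ (b - a)
        refine ⟨(m : ℤ), ?_⟩
        have h2 := h1 m
        rw [mul_inv_eq_iff_eq_mul] at h2
        rw [hdd, hz, inv_inv]
        have h3 : (y ^ m)⁻¹ * x * y ^ m = c ^ m * x := by
          calc (y ^ m)⁻¹ * x * y ^ m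
              = (y ^ m)⁻¹ * (c ^ m * ((c ^ m)⁻¹ * x)) * y ^ m := by group
            _ = (y ^ m)⁻¹ * (c ^ m * (y ^ m * x * (y ^ m)⁻¹)) * y ^ m := by rw [h2]
            _ = (y ^ m)⁻¹ * (c ^ m * y ^ m) * x := by group
            _ = c ^ m * x := by rw [(hcY.pow_left m |>.pow_right m).eq]; group
        rw [h3, mul_inv_cancel_right, zpow_natCast]
      obtain ⟨k, hk⟩ := hdc
      have hdX : Commute d x := hk ▸ hcX.zpow_left k
      have hdY : Commute d z := hk ▸ ((hcY.zpow_left k).pow_right _).inv_right
      have hdp' : d ^ p = 1 := by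
        rw [hk, ← zpow_natCast (c ^ k), ← zpow_mul, mul_comm, zpow_mul, zpow_natCast, hcp, one_zpow]
      have hodd : Odd p := hx.1.of_dvd_nat hpx
      have hpow : (x * z) ^ p ^ a = 1 := by
        rw [pow_mul_central hdp hdX hdY]
        have h1 : d ^ (p ^ a).choose 2 = 1 := by
          have hd2 : p ∣ (p ^ a).choose 2 := hp.dvd_choose_pow (by norm_num) (by
            intro h2
            have : 2 ≤ p := hp.two_le
            have hpp : p ≤ p ^ a := Nat.le_self_pow ha0 p
            rcases hodd with ⟨r, hr⟩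
            omega)
          obtain ⟨r, hr⟩ := hd2
          rw [hr, pow_mul, hdp', one_pow]
        have h2 : z ^ p ^ a = (c ^ j')⁻¹ := by
          rw [hz, inv_pow, ← pow_mul, inv_inj, hi, ← pow_mul, ← pow_mul]
          congr 1
          rw [mul_assoc, ← pow_add, Nat.sub_add_cancel hab]
          ring
        rw [h1, h2, hj', mul_one, mul_inv_cancel]
      have hxz : x * z ∈ oddC hG ht := mul_mem hx (inv_mem (pow_mem hy _))
      have hlt : orderOf (x * z) < orderOf x := by
        rw [ha]
        exact lt_of_le_of_lt (Nat.le_of_dvd (pow_pos hp.pos a) (orderOf_dvd_of_pow_eq_one hpow))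
          (Nat.pow_lt_pow_right hp.one_lt (Nat.lt_succ_self a))
      have := ih _ (by omega) (x * z) y le_rfl hxz hy
      exact hxy (by simpa using this.mul_left hzy.symm.inv_left)
    rcases le_total (orderOf x) (orderOf y) with h | h
    · exact (key x y hx hy hn h).symm
    · exact key y x hy hx (by omega) h

theorem exists_pow_mem_oddC (hG : Nc G) {t : G} (ht : orderOf t = 2) {g : G} (hg : Commute g t) :
    ∃ k : ℕ, g ^ 2 ^ k ∈ oddC hG ht := by
  obtain ⟨k, m, hm, he⟩ := Nat.exists_eq_pow_mul_and_not_dvd (orderOf_pos g).ne' 2 (by norm_num)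
  refine ⟨k, ?_, hg.pow_left _⟩
  rw [orderOf_pow_of_dvd (by positivity) (he ▸ dvd_mul_right _ _), he,
    Nat.mul_div_cancel_left _ (by positivity)]
  exact Nat.not_even_iff_odd.1 fun h => hm (even_iff_two_dvd.1 h)

/-- The centralizer of an involution is solvable. -/
theorem solvable_centralizer (hG : Nc G) {t : G} (ht : orderOf t = 2) :
    Group.IsSolvable ↥(Subgroup.centralizer ({t} : Set G)) := by
  haveI : Fact (Nat.Prime 2) := ⟨Nat.prime_two⟩
  set C := Subgroup.centralizer ({t} : Set G) with hC
  set O := (oddC hG ht).subgroupOf C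
  haveI hn : O.Normal := ⟨fun x hx g => oddC_normal_mem (hG := hG) ht
    (Subgroup.mem_centralizer_singleton_iff.1 g.2) hx⟩
  have hp : IsPGroup 2 (↥C ⧸ O) := by
    intro q
    obtain ⟨g, rfl⟩ := QuotientGroup.mk_surjective q
    obtain ⟨k, hk⟩ := exists_pow_mem_oddC hG ht (Subgroup.mem_centralizer_singleton_iff.1 g.2)
    exact ⟨k, by rw [← QuotientGroup.mk_pow, QuotientGroup.eq_one_iff]; exact hk⟩
  haveI : Group.IsSolvable (↥C ⧸ O) := by
    haveI := hp.isNilpotent
    infer_instance
  haveI : Group.IsSolvable ↥O :=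
    Group.isSolvable_of_comm fun a b => Subtype.ext (Subtype.ext (oddC_comm hG ht _ a.2 _ b.2).eq)
  exact Group.isSolvable_of_ker_le_range O.subtype (QuotientGroup.mk' O)
    (by rw [QuotientGroup.ker_mk', Subgroup.range_subtype])

end

/-- The normalizer condition passes to subgroups. -/
theorem Nc.sub (hG : Nc G) (H : Subgroup G) : Nc ↥H := by
  refine ⟨fun X hX hXe Y hYX hY => ?_⟩
  have key : ∀ Z : Subgroup ↥H, Subgroup.normalizer (Z : Set ↥H) =
      (Subgroup.normalizer (Z.map H.subtype : Set G)).subgroupOf H := by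
    intro Z
    rw [Subgroup.subgroupOf_normalizer_eq (Subgroup.map_subtype_le Z), Subgroup.subgroupOf,
      Subgroup.comap_map_eq_self_of_injective H.subtype_injective]
  have hinj := H.subtype_injective
  have e := Subgroup.equivMapOfInjective X H.subtype hinj
  haveI := hX
  rw [key X, key Y, hG.norm (X.map H.subtype) (isCyclic_of_surjective e.toMonoidHom e.surjective)
    (by rwa [Subgroup.card_map_of_injective hinj]) (Y.map H.subtype) (Subgroup.map_mono hYX)
    (by rwa [Ne, Subgroup.map_eq_bot_iff_of_injective _ hinj])]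

theorem solvable_sup {M R : Subgroup G} [R.Normal] (hM : Group.IsSolvable M)
    (hR : Group.IsSolvable R) : Group.IsSolvable (M ⊔ R : Subgroup G) := by
  haveI := hM
  haveI := hR
  haveI h1 : Group.IsSolvable ((M.map (QuotientGroup.mk' R)) : Subgroup (G ⧸ R)) :=
    Group.isSolvable_of_surjective ((QuotientGroup.mk' R).subgroupMap_surjective M)
  let f : (M ⊔ R : Subgroup G) →* M.map (QuotientGroup.mk' R) :=
    ((QuotientGroup.mk' R).comp (M ⊔ R).subtype).codRestrict _ (fun x => by
      have hx : (x : G) ∈ M ⊔ R := x.2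
      obtain ⟨n, hn, r, hr, e⟩ := Subgroup.mem_sup_of_normal_right.mp hx
      refine ⟨n, hn, ?_⟩
      show QuotientGroup.mk' R n = QuotientGroup.mk' R (x : G)
      rw [← e, map_mul, show QuotientGroup.mk' R r = 1 from (QuotientGroup.eq_one_iff r).2 hr,
        mul_one])
  refine Group.isSolvable_of_ker_le_range (Subgroup.inclusion (le_sup_right : R ≤ M ⊔ R)) f
    fun x hx => ?_
  exact ⟨⟨x, (QuotientGroup.eq_one_iff (x : G)).mp (congrArg Subtype.val (MonoidHom.mem_ker.mp hx))⟩,
    rfl⟩

/-- The hypotheses pass to normal subgroups. -/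
theorem Hy.of_normal (hG : Hy G) (N : Subgroup G) [hN : N.Normal] : Hy ↥N := by
  refine ⟨hG.toNc.sub N, fun M hM hMs => ?_, hG.ft⟩
  set s : Set (Subgroup ↥N) := {R | R.Normal ∧ Group.IsSolvable ↥R}
  obtain ⟨Q, ⟨hQn, hQs⟩, hQmax⟩ := (Set.toFinite s).exists_maximal ⟨M, hM, hMs⟩
  haveI := hQn
  have hle : ∀ R ∈ s, R ≤ Q := fun R hR => by
    haveI := hR.1
    have hmem : R ⊔ Q ∈ s := ⟨Subgroup.sup_normal R Q, solvable_sup hR.2 hQs⟩
    exact le_sup_left.trans (hQmax hmem le_sup_right)
  haveI : Q.Characteristic := by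
    rw [Subgroup.characteristic_iff_map_le]
    intro φ
    haveI := hQs
    exact hle _ ⟨hQn.map φ.toMonoidHom φ.surjective, Group.isSolvable_of_surjective
      (φ.toMonoidHom.subgroupMap_surjective Q)⟩
  have hbot := hG.ss (Q.map N.subtype) inferInstance (by
    haveI := hQs
    exact Group.isSolvable_of_surjective (N.subtype.subgroupMap_surjective Q))
  rw [Subgroup.map_eq_bot_iff_of_injective _ N.subtype_injective] at hbot
  rw [hbot] at hle
  exact le_bot_iff.1 (hle M ⟨hM, hMs⟩)

end Cfsg.Agent.Transfer.NormCyc
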