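import Cfsg.Agent.Lib.Transfer.NormCyc.Sylow
import Cfsg.Agent.Lib.Transfer.Burnside
import Cfsg.Agent.Lib.Fus.AbelianInvCentMain
import Cfsg.Agent.Lib.Block.QuaternionSylow
import Cfsg.Agent.S0080
import Cfsg.Agent.Lib.Invol.GLTwoThreeSimple

/-!
Abelian Sylow 2-subgroups.
-/

set_option autoImplicit false
set_option linter.unusedSectionVars false
set_option linter.style.haveILetI false

open scoped commutatorElement

namespace Cfsg.Agent.Transfer.NormCyc

universe u

/-- The conclusion of the recognition theorem. -/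
def Concl (G : Type u) [Group G] : Prop :=
  ∃ (F : Type) (_ : Field F) (_ : Fintype F), 3 < Fintype.card F ∧
    (Nonempty (G ≃* Matrix.ProjectiveSpecialLinearGroup (Fin 2) F) ∨
      Nonempty (G ≃* Matrix.ProjGenLinGroup (Fin 2) F))

/-- In `SL(2, 2^f)` an element commuting with an involution squares to one. -/
theorem sl_two_sq {F : Type*} [Field F] [CharP F 2]
    {x y : Matrix.SpecialLinearGroup (Fin 2) F} (hx : x * x = 1) (hx1 : x ≠ 1) (hc : Commute y x) :
    y * y = 1 := by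
  have h2 : (2 : F) = 0 := CharTwo.two_eq_zero
  have hdx := Matrix.det_fin_two (x : Matrix (Fin 2) (Fin 2) F)
  rw [x.2] at hdx
  have hdy := Matrix.det_fin_two (y : Matrix (Fin 2) (Fin 2) F)
  rw [y.2] at hdy
  have hxi : x⁻¹ = x := inv_eq_of_mul_eq_one_right hx
  have hxm := congrArg (fun z : Matrix.SpecialLinearGroup (Fin 2) F => (z : Matrix (Fin 2) (Fin 2) F)) hxi
  simp only [Matrix.SpecialLinearGroup.coe_inv, Matrix.adjugate_fin_two] at hxm
  have h00 : (x : Matrix (Fin 2) (Fin 2) F) 1 1 = (x : Matrix (Fin 2) (Fin 2) F) 0 0 := by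
    simpa using congrFun (congrFun hxm 0) 0
  have hcm := congrArg (fun z : Matrix.SpecialLinearGroup (Fin 2) F => (z : Matrix (Fin 2) (Fin 2) F)) hc.eq
  simp only [Matrix.SpecialLinearGroup.coe_mul] at hcm
  have e01 := congrFun (congrFun hcm 0) 1
  have e10 := congrFun (congrFun hcm 1) 0
  simp only [Matrix.mul_apply, Fin.sum_univ_two] at e01 e10
  rw [h00] at e01 e10
  have hp : (y : Matrix (Fin 2) (Fin 2) F) 1 1 = (y : Matrix (Fin 2) (Fin 2) F) 0 0 := by
    by_contra hne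
    have hb : (x : Matrix (Fin 2) (Fin 2) F) 0 1 = 0 := by
      have : (x : Matrix (Fin 2) (Fin 2) F) 0 1 *
          ((y : Matrix (Fin 2) (Fin 2) F) 0 0 - (y : Matrix (Fin 2) (Fin 2) F) 1 1) = 0 := by
        linear_combination e01
      exact (mul_eq_zero.1 this).resolve_right (sub_ne_zero.2 (Ne.symm hne))
    have hg : (x : Matrix (Fin 2) (Fin 2) F) 1 0 = 0 := by
      have : (x : Matrix (Fin 2) (Fin 2) F) 1 0 *
          ((y : Matrix (Fin 2) (Fin 2) F) 1 1 - (y : Matrix (Fin 2) (Fin 2) F) 0 0) = 0 := by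
        linear_combination e10
      exact (mul_eq_zero.1 this).resolve_right (sub_ne_zero.2 hne)
    rw [hb, hg, h00] at hdx
    have ha : (x : Matrix (Fin 2) (Fin 2) F) 0 0 = 1 := by
      have : ((x : Matrix (Fin 2) (Fin 2) F) 0 0 - 1) * ((x : Matrix (Fin 2) (Fin 2) F) 0 0 - 1) = 0 := by
        linear_combination -hdx + (1 - (x : Matrix (Fin 2) (Fin 2) F) 0 0) * h2
      exact sub_eq_zero.1 (mul_self_eq_zero.1 this)
    apply hx1
    refine Subtype.ext (Matrix.ext fun i j => ?_)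
    fin_cases i <;> fin_cases j <;> simp [hb, hg, h00, ha]
  rw [hp] at hdy
  refine Subtype.ext (Matrix.ext fun i j => ?_)
  simp only [Matrix.SpecialLinearGroup.coe_mul, Matrix.SpecialLinearGroup.coe_one, Matrix.mul_apply,
    Fin.sum_univ_two]
  fin_cases i <;> fin_cases j <;>
    simp [hp] <;>
    first
      | linear_combination -hdy + (y : Matrix (Fin 2) (Fin 2) F) 0 1 * (y : Matrix (Fin 2) (Fin 2) F) 1 0 * h2
      | linear_combination (y : Matrix (Fin 2) (Fin 2) F) 0 0 * (y : Matrix (Fin 2) (Fin 2) F) 0 1 * h2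
      | linear_combination (y : Matrix (Fin 2) (Fin 2) F) 0 0 * (y : Matrix (Fin 2) (Fin 2) F) 1 0 * h2

theorem card_sl_two_dvd_six {F : Type*} [Field F] [Fintype F] (h : Fintype.card F = 2) :
    Nat.card (Matrix.SpecialLinearGroup (Fin 2) F) ∣ 6 := by
  classical
  have h1 : Nat.card (GL (Fin 2) F) = 6 := by
    rw [Matrix.card_GL_field]
    simp [Fin.prod_univ_two, h]
  exact h1 ▸ Subgroup.card_dvd_of_injective Matrix.SpecialLinearGroup.toGL
    (fun a b hab => Subtype.ext (congrArg (fun u : GL (Fin 2) F => (u : Matrix (Fin 2) (Fin 2) F)) hab))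

variable {G : Type u} [Group G] [Finite G]

theorem top_not_solvable (hG : Hy G) [Nontrivial G] : ¬ Group.IsSolvable G := fun h => by
  haveI := h
  exact top_ne_bot (α := Subgroup G) (hG.ss ⊤ inferInstance inferInstance)

theorem even_card (hG : Hy G) [Nontrivial G] : Even (Nat.card G) := by
  by_contra h
  exact top_not_solvable hG (hG.ft G (Nat.not_even_iff_odd.1 h))

theorem not_cyclic_sylow (hG : Hy G) [Nontrivial G] (S : Sylow 2 G) :
    ¬ IsCyclic (S : Subgroup G) := by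
  intro hc
  haveI : Fact (Nat.Prime 2) := ⟨Nat.prime_two⟩
  obtain ⟨K, hK, hKodd, hKi⟩ := Cfsg.Agent.Block.cyclic_two_complement S hc
  have hbot := hG.ss K hK (hG.ft ↥K (Nat.not_even_iff_odd.1 fun h => hKodd (even_iff_two_dvd.1 h)))
  rw [hbot, Subgroup.index_bot] at hKi
  have : IsPGroup 2 G := by
    obtain ⟨k, hk⟩ := S.isPGroup'.exists_card_eq
    exact IsPGroup.of_card (n := k) (hKi.trans hk)
  haveI := this.isNilpotent
  exact top_not_solvable hG inferInstance

theorem not_normal_sylow (hG : Hy G) [Nontrivial G] (S : Sylow 2 G) :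
    ¬ (S : Subgroup G).Normal := by
  intro h
  haveI : Fact (Nat.Prime 2) := ⟨Nat.prime_two⟩
  haveI := S.isPGroup'.isNilpotent
  have hbot := hG.ss (S : Subgroup G) h inferInstance
  have := S.dvd_card_of_dvd_card (even_iff_two_dvd.1 (even_card hG))
  rw [hbot, Subgroup.card_bot] at this
  omega

theorem exists_conj_mem_sylow (S : Sylow 2 G) {i : G} (hi : orderOf i = 2) :
    ∃ g : G, g * i * g⁻¹ ∈ (S : Subgroup G) := by
  haveI : Fact (Nat.Prime 2) := ⟨Nat.prime_two⟩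
  obtain ⟨T, hT⟩ := (IsPGroup.of_card (p := 2) (n := 1) (show Nat.card (Subgroup.zpowers i) = 2 ^ 1 by
    rw [Nat.card_zpowers, hi]; norm_num)).exists_le_sylow
  obtain ⟨g, hg⟩ := MulAction.exists_smul_eq G T S
  refine ⟨g, ?_⟩
  rw [← hg, Sylow.coe_subgroup_smul]
  exact Subgroup.smul_mem_pointwise_smul i (MulAut.conj g) _ (hT (Subgroup.mem_zpowers i))

/-- All involution centralizers abelian. -/
theorem ai_case (hG : Hy G) [Nontrivial G] (hAI : Fus.AbInv.AI G) :
    Concl G ∧ ∀ x y : G, orderOf x = 2 → Commute y x → y * y = 1 := by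
  haveI : Fact (Nat.Prime 2) := ⟨Nat.prime_two⟩
  rcases Fus.AbInv.classify (even_card hG) hAI with h | h | ⟨F, i1, i2, A, i3, i4, hch, -, ⟨e⟩⟩
  · exact absurd (h (default : Sylow 2 G)) (not_cyclic_sylow hG _)
  · exact absurd (h (default : Sylow 2 G)) (not_normal_sylow hG _)
  haveI := hch
  let f : G →* Matrix.SpecialLinearGroup (Fin 2) F := (MonoidHom.fst _ A).comp e.toMonoidHom
  have hker : f.ker = ⊥ := hG.ss _ inferInstance (Group.isSolvable_of_comm fun a b => by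
    refine Subtype.ext (e.injective (Prod.ext ?_ ?_))
    · rw [Subgroup.coe_mul, Subgroup.coe_mul, map_mul e, map_mul e, Prod.fst_mul, Prod.fst_mul,
        show (e (a : G)).1 = 1 from a.2, show (e (b : G)).1 = 1 from b.2]
    · rw [Subgroup.coe_mul, Subgroup.coe_mul, map_mul e, map_mul e, Prod.snd_mul, Prod.snd_mul, mul_comm])
  have hsurj : Function.Surjective f := fun s => ⟨e.symm (s, 1), by simp [f]⟩
  let e₁ : G ≃* Matrix.SpecialLinearGroup (Fin 2) F :=
    MulEquiv.ofBijective f ⟨(MonoidHom.ker_eq_bot_iff f).1 hker, hsurj⟩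
  let e₂ : Matrix.SpecialLinearGroup (Fin 2) F ≃* Matrix.ProjectiveSpecialLinearGroup (Fin 2) F :=
    ((QuotientGroup.quotientMulEquivOfEq (Fus.CTSimple.center_eq_bot_of_two CharTwo.two_eq_zero)).trans
      QuotientGroup.quotientBot).symm
  have hsq : ∀ x y : G, orderOf x = 2 → Commute y x → y * y = 1 := by
    intro x y hx hxy
    refine e₁.injective ?_
    rw [map_mul, map_one]
    refine sl_two_sq (x := e₁ x) ?_ ?_ (hxy.map e₁)
    · rw [← map_mul, show x * x = 1 by rw [← pow_two, show 2 = orderOf x from hx.symm, pow_orderOf_eq_one], map_one]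
    · rw [ne_eq, MulEquiv.map_eq_one_iff]
      intro h1
      rw [h1, orderOf_one] at hx
      omega
  refine ⟨⟨F, i1, i2, ?_, Or.inl ⟨e₁.trans e₂⟩⟩, hsq⟩
  obtain ⟨k, -, hk⟩ := FiniteField.card F 2
  rw [hk]
  rcases Nat.lt_or_ge (k : ℕ) 2 with h1 | h1
  · exfalso
    have hk1 : (k : ℕ) = 1 := le_antisymm (by omega) k.pos
    have h6 := card_sl_two_dvd_six (F := F) (by rw [hk, hk1, pow_one])
    have hS := not_cyclic_sylow hG (default : Sylow 2 G)
    apply hS
    set S : Sylow 2 G := default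
    obtain ⟨j, hj⟩ := S.isPGroup'.exists_card_eq
    have h3 : 2 ^ j ∣ 6 := hj ▸ (Subgroup.card_subgroup_dvd_card _).trans
      ((Nat.card_congr e₁.toEquiv).symm ▸ h6)
    have hj1 : j ≤ 1 := by
      by_contra hj2
      have := (pow_dvd_pow 2 (show 2 ≤ j by omega)).trans h3
      norm_num at this
    interval_cases j
    · haveI : Subsingleton (S : Subgroup G) := (Nat.card_eq_one_iff_unique.1 (by simpa using hj)).1
      infer_instance
    · exact isCyclic_of_prime_card (p := 2) (by simpa using hj)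
  · calc 3 < 2 ^ 2 := by norm_num
      _ ≤ _ := Nat.pow_le_pow_right two_pos h1

/-- The shape of the Sylow 2-subgroup and of the centralizer of its central involution. -/
structure Dih (hG : Nc G) (S : Sylow 2 G) (t : G) (R : Subgroup G) : Prop where
  ht : orderOf t = 2
  htR : t ∈ R
  hRS : R ≤ (S : Subgroup G)
  cyc : IsCyclic ↥R
  central : ∀ s ∈ (S : Subgroup G), Commute s t
  out : ∃ s ∈ (S : Subgroup G), s ∉ R
  inv : ∀ s ∈ (S : Subgroup G), s ∉ R → s * s = 1 ∧ ∀ r ∈ R, s * r * s⁻¹ = r⁻¹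
  idx : ∀ r ∈ (S : Subgroup G), r ∉ R → ∀ s ∈ (S : Subgroup G), s ∉ R → r * s ∈ R
  cR : ∀ r ∈ R, ∀ o ∈ oddC hG ht, Commute r o
  invO : ∀ s ∈ (S : Subgroup G), s ∉ R → ∀ o ∈ oddC hG ht, s * o * s⁻¹ = o⁻¹

theorem eq_one_of_mem {hG : Nc G} {t : G} (ht : orderOf t = 2) {S : Subgroup G}
    (hS : IsPGroup 2 ↥S) {x : G} (hx : x ∈ oddC hG ht) (hxS : x ∈ S) : x = 1 := by
  obtain ⟨k, hk⟩ := orderOf_two_pow hS hxS
  rcases Nat.eq_zero_or_pos k with rfl | hk0
  · exact orderOf_eq_one_iff.1 (by rw [hk, pow_zero])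
  · exact absurd hx.1 (Nat.not_odd_iff_even.2 (hk ▸ even_two.pow_of_ne_zero hk0.ne'))

theorem odd_sq_ne_one {x : G} (hx : Odd (orderOf x)) (h : x * x = 1) : x = 1 := by
  have := orderOf_dvd_of_pow_eq_one (x := x) (n := 2) (by rw [pow_two, h])
  rcases (Nat.dvd_prime Nat.prime_two).1 this with h1 | h1
  · exact orderOf_eq_one_iff.1 h1
  · rw [h1] at hx; exact absurd hx (by decide)

/-- The centralizer of a central involution of a Sylow 2-subgroup is `O · S`. -/
theorem exists_mul_of_commute (hG : Nc G) (S : Sylow 2 G) {t : G} (ht : orderOf t = 2)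
    (hSt : ∀ s ∈ (S : Subgroup G), Commute s t) {g : G} (hg : Commute g t) :
    ∃ o ∈ oddC hG ht, ∃ s ∈ (S : Subgroup G), g = o * s := by
  haveI : Fact (Nat.Prime 2) := ⟨Nat.prime_two⟩
  set C := Subgroup.centralizer ({t} : Set G) with hC
  have hSC : (S : Subgroup G) ≤ C := fun s hs => Subgroup.mem_centralizer_singleton_iff.2 (hSt s hs)
  set O := (oddC hG ht).subgroupOf C
  haveI hn : O.Normal := ⟨fun x hx g => oddC_normal_mem (hG := hG) ht
    (Subgroup.mem_centralizer_singleton_iff.1 g.2) hx⟩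
  have hp : IsPGroup 2 (↥C ⧸ O) := by
    intro q
    obtain ⟨g, rfl⟩ := QuotientGroup.mk_surjective q
    obtain ⟨k, hk⟩ := exists_pow_mem_oddC hG ht (Subgroup.mem_centralizer_singleton_iff.1 g.2)
    exact ⟨k, by rw [← QuotientGroup.mk_pow, QuotientGroup.eq_one_iff]; exact hk⟩
  set T := O ⊔ ((S.subtype hSC : Sylow 2 C) : Subgroup C) with hT
  have hTtop : T = ⊤ := by
    rw [← Subgroup.index_eq_one]
    obtain ⟨k, hk⟩ := hp.exists_card_eq
    have h1 : T.index ∣ 2 ^ k := hk ▸ Subgroup.index_dvd_of_le (le_sup_left : O ≤ T)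
    obtain ⟨j, -, hj⟩ := (Nat.dvd_prime_pow Nat.prime_two).1 h1
    have h2 : T.index ∣ ((S.subtype hSC : Sylow 2 C) : Subgroup C).index :=
      Subgroup.index_dvd_of_le le_sup_right
    rcases Nat.eq_zero_or_pos j with rfl | hj0
    · simpa using hj
    · exact absurd (((dvd_pow_self 2 hj0.ne').trans (dvd_of_eq hj.symm)).trans h2)
        (S.subtype hSC).not_dvd_index
  have hmem : (⟨g, Subgroup.mem_centralizer_singleton_iff.2 hg.eq⟩ : C) ∈ T := hTtop ▸ Subgroup.mem_top _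
  obtain ⟨o, ho, s, hs, e⟩ := Subgroup.mem_sup_of_normal_left.1 hmem
  exact ⟨o, ho, s, hs, (congrArg Subtype.val e).symm⟩

/-- An abelian Sylow 2-subgroup is elementary abelian, and either the group is recognised or the
subgroup is a four group. -/
theorem abelian_case (hG : Hy G) [Nontrivial G] (S : Sylow 2 G)
    (hab : ∀ a ∈ (S : Subgroup G), ∀ b ∈ (S : Subgroup G), Commute a b) :
    (∀ s ∈ (S : Subgroup G), s * s = 1) ∧ (Concl G ∨ ∃ t R, Dih hG.toNc S t R) := by
  haveI : Fact (Nat.Prime 2) := ⟨Nat.prime_two⟩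
  have hS : IsPGroup 2 ↥(S : Subgroup G) := S.isPGroup'
  have hSne : ∃ i ∈ (S : Subgroup G), orderOf i = 2 := by
    obtain ⟨⟨i, hi⟩, hi2⟩ := exists_prime_orderOf_dvd_card' (G := (S : Subgroup G)) 2
      (S.dvd_card_of_dvd_card (even_iff_two_dvd.1 (even_card hG)))
    exact ⟨i, hi, by rwa [Subgroup.orderOf_mk] at hi2⟩
  by_cases hAI : Fus.AbInv.AI G
  · obtain ⟨hc, hsq⟩ := ai_case hG hAI
    obtain ⟨i, hi, hi2⟩ := hSne
    exact ⟨fun s hs => hsq i s hi2 (hab s hs i hi), Or.inl hc⟩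
  rw [Fus.AbInv.AI] at hAI
  push Not at hAI
  obtain ⟨t', ht', x', y', hxt', hyt', hxy'⟩ := hAI
  obtain ⟨g₀, hg₀⟩ := exists_conj_mem_sylow S ht'
  set t := g₀ * t' * g₀⁻¹ with htdef
  have ht : orderOf t = 2 := by
    rw [htdef, show g₀ * t' * g₀⁻¹ = MulAut.conj g₀ t' from rfl, MulEquiv.orderOf_eq, ht']
  have hSt : ∀ s ∈ (S : Subgroup G), Commute s t := fun s hs => hab s hs t hg₀
  set O := oddC hG.toNc ht with hO
  set R := (S : Subgroup G) ⊓ Subgroup.centralizer (O : Set G) with hR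
  have hmR : ∀ r, r ∈ R ↔ r ∈ (S : Subgroup G) ∧ ∀ o ∈ O, Commute r o := fun r => by
    rw [hR, Subgroup.mem_inf, Subgroup.mem_centralizer_iff]
    exact and_congr_right fun _ => ⟨fun h o ho => (h o ho).symm, fun h o ho => (h o ho).symm.eq⟩
  have hOab := oddC_comm hG.toNc ht
  obtain ⟨s₀, hs₀, hs₀R⟩ : ∃ s ∈ (S : Subgroup G), s ∉ R := by
    by_contra hall
    push Not at hall
    have hc : ∀ a b : G, Commute a t → Commute b t → Commute a b := by
      intro a b ha hb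
      obtain ⟨o, ho, s, hs, rfl⟩ := exists_mul_of_commute hG.toNc S ht hSt ha
      obtain ⟨o', ho', s', hs', rfl⟩ := exists_mul_of_commute hG.toNc S ht hSt hb
      exact ((hOab o ho o' ho').mul_right (((hmR s').1 (hall s' hs')).2 o ho).symm).mul_left
        ((((hmR s).1 (hall s hs)).2 o' ho').mul_right (hab s hs s' hs'))
    apply hxy'
    have := hc _ _ (hxt'.map (MulAut.conj g₀)) (hyt'.map (MulAut.conj g₀))
    exact this.of_map (MulAut.conj g₀).injective
  obtain ⟨o₀, ho₀, ho₀1⟩ : ∃ o ∈ O, o ≠ 1 := by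
    by_contra h
    push Not at h
    exact hs₀R ((hmR s₀).2 ⟨hs₀, fun o ho => by rw [h o ho]; exact Commute.one_right s₀⟩)
  -- centralizers of involutions in `R`
  have hCv : ∀ v ∈ R, orderOf v = 2 → ∀ g, (Commute g t ↔ Commute g v) := fun v hv hv2 g =>
    commute_iff_of_odd hG.toNc ht hv2 ho₀.1 ho₀1 ho₀.2 (((hmR v).1 hv).2 o₀ ho₀).symm
  have hOn : ∀ s ∈ (S : Subgroup G), ∀ o ∈ O, s * o * s⁻¹ ∈ O := fun s hs o ho =>
    oddC_normal_mem (hG := hG.toNc) ht (hSt s hs) ho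
  have hII : ∀ y ∈ (S : Subgroup G), y ∉ R → ∀ j ∈ R, orderOf j = 2 → j ∉ Subgroup.zpowers y := by
    intro y hy hyR j hjR hj hjy
    apply hyR
    refine (hmR y).2 ⟨hy, fun o ho => ?_⟩
    have h1 : o * y * o⁻¹ * y⁻¹ ∈ (S : Subgroup G) := by
      refine mul_mem (?_ : o * y * o⁻¹ ∈ (S : Subgroup G)) (inv_mem hy)
      exact (Subgroup.zpowers_le.2 hy) (conj_mem_zpowers hG.toNc hj hjy (Subgroup.mem_zpowers y)
        ((hCv j hjR hj o).1 ho.2))
    have h2 : o * y * o⁻¹ * y⁻¹ ∈ O := by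
      rw [show o * y * o⁻¹ * y⁻¹ = o * (y * o⁻¹ * y⁻¹) by group]
      exact mul_mem ho (hOn y hy _ (inv_mem ho))
    have h3 := eq_one_of_mem ht hS h2 h1
    rw [mul_inv_eq_one, mul_inv_eq_iff_eq_mul] at h3
    exact h3.symm
  -- an involution outside `R`
  obtain ⟨s₁, hs₁, hs₁R, hs₁2⟩ : ∃ s ∈ (S : Subgroup G), s ∉ R ∧ s * s = 1 := by
    by_cases h : s₀ * s₀ = 1
    · exact ⟨s₀, hs₀, hs₀R, h⟩
    obtain ⟨j, hj, hjz⟩ := exists_invol_zpowers hS hs₀ (fun e => h (by rw [e, one_mul]))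
    refine ⟨j, Subgroup.zpowers_le.2 hs₀ hjz, fun hjR => hII s₀ hs₀ hs₀R j hjR hj hjz, ?_⟩
    rw [← pow_two, ← hj, pow_orderOf_eq_one]
  have hRel : ∀ r ∈ R, r * r = 1 := by
    intro r hr
    by_contra h
    have hrS := ((hmR r).1 hr).1
    have hy : s₁ * r * (s₁ * r) = r * r := by
      rw [show s₁ * r * (s₁ * r) = s₁ * (r * s₁) * r by group, ← (hab s₁ hs₁ r hrS).eq,
        show s₁ * (s₁ * r) * r = s₁ * s₁ * (r * r) by group, hs₁2, one_mul]
    obtain ⟨j, hj, hjz⟩ := exists_invol_zpowers hS (mul_mem hrS hrS) h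
    refine hII (s₁ * r) (mul_mem hs₁ hrS) (fun h' => hs₁R ((mul_mem_cancel_right hr).1 h')) j
      (Subgroup.zpowers_le.2 (mul_mem hr hr) hjz) hj ?_
    rw [← hy] at hjz
    exact Subgroup.zpowers_le.2 (mul_mem (Subgroup.mem_zpowers _) (Subgroup.mem_zpowers _)) hjz
  have hinvO : ∀ s ∈ (S : Subgroup G), s ∉ R → s * s = 1 → ∀ o ∈ O, s * o * s⁻¹ = o⁻¹ := by
    intro s hs hsR hs2
    refine Invol.GL23.inverts_of_fixed_free hs2 (hOn s hs) fun o ho hc => ?_
    by_contra ho1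
    apply hsR
    refine (hmR s).2 ⟨hs, fun o' ho' => ?_⟩
    have hs2' : orderOf s = 2 := orderOf_eq_prime (by rw [pow_two, hs2])
      (fun e => hsR (e ▸ one_mem R))
    exact ((commute_iff_of_odd hG.toNc ht hs2' ho.1 ho1 ho.2 (hc.symm : Commute o s)).1 ho'.2).symm
  have hprod : ∀ r ∈ (S : Subgroup G), r ∉ R → r * r = 1 → ∀ s ∈ (S : Subgroup G), s ∉ R → s * s = 1 →
      r * s ∈ R := by
    intro r hr hrR hr2 s hs hsR hs2
    refine (hmR _).2 ⟨mul_mem hr hs, fun o ho => ?_⟩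
    show r * s * o = o * (r * s)
    calc r * s * o = r * (s * o * s⁻¹) * r⁻¹ * (r * s) := by group
      _ = o * (r * s) := by rw [hinvO s hs hsR hs2 o ho, hinvO r hr hrR hr2 _ (inv_mem ho), inv_inv]
  have hord4 : ∀ a : G, a * a ≠ 1 → a * a * (a * a) = 1 → orderOf a = 4 := fun a h1 h4 => by
    refine orderOf_eq_prime_pow (p := 2) (n := 1) (by rwa [pow_one, pow_two]) ?_
    rw [show 2 ^ (1 + 1) = 2 * 2 by norm_num, pow_mul, pow_two, pow_two, h4]
  -- `S` is elementary abelian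
  have hel : ∀ s ∈ (S : Subgroup G), s * s = 1 := by
    by_contra hno
    push Not at hno
    obtain ⟨b, hb, hb2⟩ := hno
    obtain ⟨m, -, hm⟩ := exists_four hS hb hb2
    set y := b ^ 2 ^ m
    have hy : y ∈ (S : Subgroup G) := pow_mem hb _
    obtain ⟨hyy, hy22, hu2⟩ := four_facts hm
    have hout : ∀ w ∈ (S : Subgroup G), orderOf w = 4 → w ∉ R ∧ w * w ∉ R := fun w hw hw4 => by
      have h1 : w ∉ R := fun h => (four_facts hw4).1 (hRel w h)
      exact ⟨h1, fun h => hII w hw h1 _ h (four_facts hw4).2.2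
        (mul_mem (Subgroup.mem_zpowers w) (Subgroup.mem_zpowers w))⟩
    have huniq : ∀ w ∈ (S : Subgroup G), orderOf w = 4 → w * w = y * y := by
      intro w hw hw4
      by_contra hne
      obtain ⟨hww, hw22, -⟩ := four_facts hw4
      have hsq : y * w * (y * w) = y * y * (w * w) := by
        rw [show y * w * (y * w) = y * (w * y) * w by group, (hab w hw y hy).eq]; group
      have hR' : y * y * (w * w) ∈ R :=
        hprod _ (mul_mem hy hy) (hout y hy hm).2 hy22 _ (mul_mem hw hw) (hout w hw hw4).2 hw22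
      have h1 : y * y * (w * w) ≠ 1 := fun h => hne (by
        rw [mul_eq_one_iff_eq_inv] at h
        rw [h, inv_eq_of_mul_eq_one_right hw22])
      have h4 : orderOf (y * w) = 4 := hord4 _ (hsq ▸ h1) (by rw [hsq]; exact hRel _ hR')
      exact (hout _ (mul_mem hy hw) h4).2 (hsq ▸ hR')
    obtain ⟨g, hgS, hne⟩ := not_isolated hG S hu2 (mul_mem hy hy)
    obtain ⟨n, hn, he⟩ := exists_normalizer_conj_of_abelian S
      ⟨⟨fun a b => Subtype.ext (hab _ a.2 _ b.2).eq⟩⟩ (mul_mem hy hy) hgS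
    have h1 := huniq (n * y * n⁻¹) (conj_mem_of_normalizer hn hy)
      (by rw [show n * y * n⁻¹ = MulAut.conj n y from rfl, MulEquiv.orderOf_eq, hm])
    apply hne
    rw [← he]
    exact Eq.trans (by group) h1
  refine ⟨hel, ?_⟩
  have htR : t ∈ R := (hmR t).2 ⟨hg₀, fun o ho => ho.2.symm⟩
  by_cases hsmall : ∀ r ∈ R, r = 1 ∨ r = t
  · refine Or.inr ⟨t, R, ?_⟩
    exact
      { ht := ht
        htR := htR
        hRS := inf_le_left
        cyc := by
          have : R = Subgroup.zpowers t := le_antisymm (fun r hr => by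
              rcases hsmall r hr with h | h
              · rw [h]; exact one_mem _
              · rw [h]; exact Subgroup.mem_zpowers t) (Subgroup.zpowers_le.2 htR)
          rw [this]; infer_instance
        central := hSt
        out := ⟨s₀, hs₀, hs₀R⟩
        inv := fun s hs hsR => ⟨hel s hs, fun r hr => by
          have hrS := ((hmR r).1 hr).1
          rw [(hab s hs r hrS).eq, mul_inv_cancel_right, inv_eq_of_mul_eq_one_right (hel r hrS)]⟩
        idx := fun r hr hrR s hs hsR => hprod r hr hrR (hel r hr) s hs hsR (hel s hs)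
        cR := fun r hr o ho => ((hmR r).1 hr).2 o ho
        invO := fun s hs hsR o ho => hinvO s hs hsR (hel s hs) o ho }
  push Not at hsmall
  obtain ⟨v, hv, hv1, hvt⟩ := hsmall
  have hsS : ∀ r ∈ R, r ∈ (S : Subgroup G) := fun r hr => ((hmR r).1 hr).1
  have hord2 : ∀ r ∈ R, r ≠ 1 → orderOf r = 2 := fun r hr h1 =>
    orderOf_eq_prime (by rw [pow_two, hRel r hr]) h1
  -- the normalizer of `S` preserves `R`
  have hNR : ∀ n ∈ Subgroup.normalizer ((S : Subgroup G) : Set G), ∀ r ∈ R, n * r * n⁻¹ ∈ R := by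
    intro n hn
    have hnS : ∀ r ∈ R, n * r * n⁻¹ ∈ (S : Subgroup G) := fun r hr =>
      conj_mem_of_normalizer hn (hsS r hr)
    obtain ⟨a, ha, ha1, han⟩ : ∃ a ∈ R, a ≠ 1 ∧ n * a * n⁻¹ ∈ R := by
      by_cases h1 : n * v * n⁻¹ ∈ R
      · exact ⟨v, hv, hv1, h1⟩
      by_cases h2 : n * t * n⁻¹ ∈ R
      · exact ⟨t, htR, fun e => by rw [e, orderOf_one] at ht; omega, h2⟩
      refine ⟨v * t, mul_mem hv htR, fun e => hvt ?_, ?_⟩
      · rw [mul_eq_one_iff_eq_inv] at e
        rw [e, inv_eq_of_mul_eq_one_right (hRel t htR)]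
      · rw [show n * (v * t) * n⁻¹ = n * v * n⁻¹ * (n * t * n⁻¹) by group]
        exact hprod _ (hnS v hv) h1 (hel _ (hnS v hv)) _ (hnS t htR) h2 (hel _ (hnS t htR))
    have hna1 : n * a * n⁻¹ ≠ 1 := fun e => ha1 (conj_eq_one_iff.1 e)
    have hkey : ∀ g, Commute g t → Commute (n⁻¹ * g * n) t := by
      intro g hg
      have h1 := (hCv _ han (hord2 _ han hna1) g).1 hg
      refine (hCv a ha (hord2 a ha ha1) _).2 ?_
      have h2 := h1.map (MulAut.conj n⁻¹)
      simpa [mul_assoc] using h2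
    intro r hr
    refine (hmR _).2 ⟨hnS r hr, fun o ho => ?_⟩
    have ho' : n⁻¹ * o * n ∈ O := by
      refine ⟨?_, hkey o ho.2⟩
      rw [show n⁻¹ * o * n = MulAut.conj n⁻¹ o by simp, MulEquiv.orderOf_eq]
      exact ho.1
    have h3 := (((hmR r).1 hr).2 _ ho').map (MulAut.conj n)
    simpa [mul_assoc] using h3
  -- a normal subgroup meeting `S` in `R`
  have hcop : Nat.Coprime (S : Subgroup G).index
      (⁅(S : Subgroup G), (S : Subgroup G)⁆.relIndex (S : Subgroup G)) := by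
    rw [show ⁅(S : Subgroup G), (S : Subgroup G)⁆ = ⊥ from Subgroup.commutator_eq_bot_iff_le_centralizer.2
      fun a ha => Subgroup.mem_centralizer_iff.2 fun b hb => (hab b hb a ha).eq,
      Subgroup.relIndex_bot_left]
    exact S.card_coprime_index.symm
  obtain ⟨-, N, hNn, hNS, hNtop⟩ := Cfsg.Agent.S0080.result (S : Subgroup G) hcop
  haveI := hNn
  have hfoc : N ⊓ (S : Subgroup G) ≤ R := by
    rw [hNS]
    refine ((abelian_sylow_inf_commutator S ⟨⟨fun a b => Subtype.ext (hab _ a.2 _ b.2).eq⟩⟩).1).trans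
      ((Subgroup.commutator_le).2 fun a ha n hn => ?_)
    have hna : n * a⁻¹ * n⁻¹ ∈ (S : Subgroup G) := conj_mem_of_normalizer hn (inv_mem ha)
    rw [commutatorElement_def, show a * n * a⁻¹ * n⁻¹ = a * (n * a⁻¹ * n⁻¹) by group]
    by_cases haR : a ∈ R
    · exact mul_mem haR (hNR n hn _ (inv_mem haR))
    · refine hprod a ha haR (hel a ha) _ hna (fun h => haR ?_) (hel _ hna)
      have := hNR n⁻¹ (inv_mem hn) _ h
      rw [show n⁻¹ * (n * a⁻¹ * n⁻¹) * n⁻¹⁻¹ = a⁻¹ by group] at this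
      exact inv_mem_iff.1 this
  set G₁ := N ⊔ R with hG₁
  have hG₁n : G₁.Normal := by
    refine ⟨fun x hx g => ?_⟩
    obtain ⟨n, hn, r, hr, rfl⟩ := Subgroup.mem_sup_of_normal_left.1 hx
    have hg : g ∈ N ⊔ (S : Subgroup G) := hNtop ▸ Subgroup.mem_top g
    obtain ⟨m, hm, s, hs, rfl⟩ := Subgroup.mem_sup_of_normal_left.1 hg
    have e : m * s * (n * r) * (m * s)⁻¹ =
        (m * s * n * (m * s)⁻¹) * (m * (s * r * s⁻¹) * m⁻¹) := by group
    rw [e, (hab s hs r (hsS r hr)).eq, mul_inv_cancel_right]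
    refine mul_mem (Subgroup.mem_sup_left (hNn.conj_mem n hn _)) ?_
    rw [show m * r * m⁻¹ = m * (r * m⁻¹ * r⁻¹) * r by group]
    exact mul_mem (Subgroup.mem_sup_left (mul_mem hm (hNn.conj_mem _ (inv_mem hm) r)))
      (Subgroup.mem_sup_right hr)
  haveI := hG₁n
  have hG₁S : ∀ x ∈ G₁, x ∈ (S : Subgroup G) → x ∈ R := by
    intro x hx hxS
    obtain ⟨n, hn, r, hr, rfl⟩ := Subgroup.mem_sup_of_normal_left.1 hx
    exact mul_mem (hfoc ⟨hn, (mul_mem_cancel_right (hsS r hr)).1 hxS⟩) hr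
  have hodd : ∀ o ∈ O, o ∈ G₁ := by
    intro o ho
    refine Subgroup.mem_sup_left ?_
    have hi : ∃ k, N.index = 2 ^ k := by
      obtain ⟨k, hk⟩ := hS.exists_card_eq
      have hdvd : N.index ∣ 2 ^ k := by
        rw [← hk, ← Subgroup.relIndex_top_right, ← hNtop, Subgroup.relIndex_sup_left]
        exact Subgroup.relIndex_dvd_card N (S : Subgroup G)
      obtain ⟨j, -, hj⟩ := (Nat.dvd_prime_pow Nat.prime_two).1 hdvd
      exact ⟨j, hj⟩
    obtain ⟨k, hk⟩ := hi
    have h1 : orderOf (QuotientGroup.mk' N o) ∣ 2 ^ k := hk ▸ orderOf_dvd_natCard _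
    have h2 := orderOf_map_dvd (QuotientGroup.mk' N) o
    have h3 := Nat.eq_one_of_dvd_coprimes (((Nat.coprime_two_left.2 ho.1).pow_left k)) h1 h2
    exact (QuotientGroup.eq_one_iff o).1 (orderOf_eq_one_iff.1 h3)
  haveI : Nontrivial ↥G₁ := ⟨⟨⟨o₀, hodd o₀ ho₀⟩, 1, fun e => ho₀1 (congrArg Subtype.val e)⟩⟩
  have hAI₁ : Fus.AbInv.AI ↥G₁ := by
    rintro ⟨i, hiG⟩ hi ⟨x, hxG⟩ ⟨y, hyG⟩ hxi hyi
    rw [Subgroup.orderOf_mk] at hi
    obtain ⟨g, hg⟩ := exists_conj_mem_sylow S hi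
    have hiR : g * i * g⁻¹ ∈ R := hG₁S _ (hG₁n.conj_mem i hiG g) hg
    have hi1 : g * i * g⁻¹ ≠ 1 := fun e => by
      rw [conj_eq_one_iff.1 e, orderOf_one] at hi; omega
    have key : ∀ a ∈ G₁, Commute a i → ∃ o ∈ O, ∃ r ∈ R, g * a * g⁻¹ = o * r := by
      intro a ha hai
      obtain ⟨o, ho, s, hs, e⟩ := exists_mul_of_commute hG.toNc S ht hSt
        ((hCv _ hiR (hord2 _ hiR hi1) _).2 (hai.map (MulAut.conj g)))
      refine ⟨o, ho, s, hG₁S s ?_ hs, e⟩
      have : s = o⁻¹ * (g * a * g⁻¹) := by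
        rw [show g * a * g⁻¹ = o * s from e]; group
      rw [this]
      exact mul_mem (inv_mem (hodd o ho)) (hG₁n.conj_mem a ha g)
    obtain ⟨o, ho, r, hr, e⟩ := key x hxG (congrArg Subtype.val hxi.eq)
    obtain ⟨o', ho', r', hr', e'⟩ := key y hyG (congrArg Subtype.val hyi.eq)
    have hcom : Commute (g * x * g⁻¹) (g * y * g⁻¹) := by
      rw [e, e']
      exact ((hOab o ho o' ho').mul_right (((hmR r').1 hr').2 o ho).symm).mul_left
        ((((hmR r).1 hr).2 o' ho').mul_right (hab r (hsS r hr) r' (hsS r' hr')))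
    exact Subtype.ext (hcom.of_map (f := MulAut.conj g) (MulAut.conj g).injective).eq
  have h := (ai_case (hG.of_normal G₁) hAI₁).2 ⟨t, Subgroup.mem_sup_right htR⟩ ⟨o₀, hodd o₀ ho₀⟩
    (by rw [Subgroup.orderOf_mk]; exact ht) (Subtype.ext ho₀.2.eq)
  exact absurd (odd_sq_ne_one ho₀.1 (congrArg Subtype.val h)) ho₀1

end Cfsg.Agent.Transfer.NormCyc
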