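import Cfsg.Agent.Lib.Transfer.NormCyc.Abelian
import Cfsg.Agent.Lib.Invol.OneInvol

/-!
A nonabelian Sylow 2-subgroup is dihedral.
-/

set_option autoImplicit false
set_option linter.unusedSectionVars false
set_option linter.style.haveILetI false

open scoped commutatorElement

namespace Cfsg.Agent.Transfer.NormCyc

universe u

variable {G : Type u} [Group G] [Finite G]

/-- A generalized dihedral Sylow 2-subgroup `S` over `A`. -/
structure GenDih (S : Sylow 2 G) (A : Subgroup G) : Prop where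
  hAS : A ≤ (S : Subgroup G)
  comm : ∀ a ∈ A, ∀ b ∈ A, Commute a b
  out : ∃ s ∈ (S : Subgroup G), s ∉ A
  inv : ∀ s ∈ (S : Subgroup G), s ∉ A → s * s = 1 ∧ ∀ a ∈ A, s * a * s⁻¹ = a⁻¹
  idx : ∀ r ∈ (S : Subgroup G), r ∉ A → ∀ s ∈ (S : Subgroup G), s ∉ A → r * s ∈ A
  four : ∃ y ∈ A, orderOf y = 4

theorem GenDih.conj_mem {S : Sylow 2 G} {A : Subgroup G} (h : GenDih S A) {s a : G}
    (hs : s ∈ (S : Subgroup G)) (ha : a ∈ A) : s * a * s⁻¹ ∈ A := by
  by_cases hsA : s ∈ A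
  · exact mul_mem (mul_mem hsA ha) (inv_mem hsA)
  · rw [(h.inv s hs hsA).2 a ha]; exact inv_mem ha

/-- Some element outside `A` is conjugate into `A`. -/
theorem exists_conj_into (hG : Hy G) {S : Sylow 2 G} {A : Subgroup G} (hD : GenDih S A) :
    ∃ g e : G, e ∈ (S : Subgroup G) ∧ e ∉ A ∧ g * e * g⁻¹ ∈ A := by
  haveI : Fact (Nat.Prime 2) := ⟨Nat.prime_two⟩
  by_contra hno
  push Not at hno
  -- both or neither of two conjugate elements of `S` lie in `A`
  have hfocal : Subgroup.focalSubgroup (S : Subgroup G) ≤ A := by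
    unfold Subgroup.focalSubgroup
    rw [Subgroup.closure_le]
    rintro _ ⟨hmem, x, hx, g, rfl⟩
    have hy : g * x⁻¹ * g⁻¹ ∈ (S : Subgroup G) := by
      have h := mul_mem (inv_mem hx) hmem
      rw [commutatorElement_def] at h
      convert h using 1
      group
    rw [SetLike.mem_coe, commutatorElement_def,
      show x * g * x⁻¹ * g⁻¹ = x * (g * x⁻¹ * g⁻¹) by group]
    by_cases hxA : x ∈ A <;> by_cases hyA : g * x⁻¹ * g⁻¹ ∈ A
    · exact mul_mem hxA hyA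
    · refine absurd ?_ (hno g⁻¹ _ hy hyA)
      rw [show g⁻¹ * (g * x⁻¹ * g⁻¹) * g⁻¹⁻¹ = x⁻¹ by group]
      exact inv_mem hxA
    · exact absurd hyA (hno g x⁻¹ (inv_mem hx) (fun h => hxA (inv_mem_iff.1 h)))
    · exact hD.idx x hx hxA _ hy hyA
  have hcop : Nat.Coprime (S : Subgroup G).index
      (⁅(S : Subgroup G), (S : Subgroup G)⁆.relIndex (S : Subgroup G)) :=
    Nat.Coprime.coprime_dvd_right (Subgroup.relIndex_dvd_card _ _) S.card_coprime_index.symm
  obtain ⟨hfeq, N, hNn, hNS, hNtop⟩ := Cfsg.Agent.S0080.result (S : Subgroup G) hcop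
  haveI := hNn
  have hfoc : N ⊓ (S : Subgroup G) ≤ A := by rw [hNS, ← hfeq]; exact hfocal
  have hG₁n : (N ⊔ A).Normal := by
    refine ⟨fun x hx g => ?_⟩
    obtain ⟨n, hn, r, hr, rfl⟩ := Subgroup.mem_sup_of_normal_left.1 hx
    have hg : g ∈ N ⊔ (S : Subgroup G) := hNtop ▸ Subgroup.mem_top g
    obtain ⟨m, hm, s, hs, rfl⟩ := Subgroup.mem_sup_of_normal_left.1 hg
    have e : m * s * (n * r) * (m * s)⁻¹ =
        (m * s * n * (m * s)⁻¹) * (m * (s * r * s⁻¹) * m⁻¹) := by group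
    rw [e]
    have hr' := hD.conj_mem hs hr
    refine mul_mem (Subgroup.mem_sup_left (hNn.conj_mem n hn _)) ?_
    set r' := s * r * s⁻¹
    rw [show m * r' * m⁻¹ = m * (r' * m⁻¹ * r'⁻¹) * r' by group]
    exact mul_mem (Subgroup.mem_sup_left (mul_mem hm (hNn.conj_mem _ (inv_mem hm) r')))
      (Subgroup.mem_sup_right hr')
  haveI := hG₁n
  set G₁ := N ⊔ A with hG₁
  have hAp : IsPGroup 2 ↥A := S.isPGroup'.to_le hD.hAS
  obtain ⟨T, hT⟩ := (hAp.comap_subtype (K := G₁)).exists_le_sylow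
  have hTab : ∀ a ∈ (T : Subgroup G₁), ∀ b ∈ (T : Subgroup G₁), Commute a b := by
    obtain ⟨P, hP⟩ := (T.isPGroup'.map G₁.subtype).exists_le_sylow
    obtain ⟨g, hg⟩ := MulAction.exists_smul_eq G P S
    have key : ∀ a ∈ (T : Subgroup G₁), g * (a : G) * g⁻¹ ∈ A := by
      intro a ha
      have h1 : g * (a : G) * g⁻¹ ∈ (S : Subgroup G) := by
        rw [← hg, Sylow.coe_subgroup_smul]
        exact Subgroup.smul_mem_pointwise_smul _ (MulAut.conj g) _ (hP ⟨a, ha, rfl⟩)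
      obtain ⟨n, hn, r, hr, e⟩ := Subgroup.mem_sup_of_normal_left.1 (hG₁n.conj_mem _ a.2 g)
      rw [← e] at h1 ⊢
      exact mul_mem (hfoc ⟨hn, (mul_mem_cancel_right (hD.hAS hr)).1 h1⟩) hr
    intro a ha b hb
    exact Subtype.ext ((show Commute (MulAut.conj g (a : G)) (MulAut.conj g (b : G)) from
      hD.comm _ (key a ha) _ (key b hb)).of_map (MulAut.conj g).injective).eq
  obtain ⟨y, hy, hy4⟩ := hD.four
  have hyT : (⟨y, Subgroup.mem_sup_right hy⟩ : G₁) ∈ (T : Subgroup G₁) := hT hy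
  have hy1 : y ≠ 1 := fun e => by rw [e, orderOf_one] at hy4; omega
  haveI : Nontrivial ↥G₁ := ⟨⟨⟨y, Subgroup.mem_sup_right hy⟩, 1, fun e => hy1 (congrArg Subtype.val e)⟩⟩
  exact (four_facts hy4).1 (congrArg Subtype.val ((abelian_case (hG.of_normal G₁) T hTab).1 _ hyT))

/-- A nonabelian Sylow 2-subgroup has a cyclic subgroup `A` of index two. -/
theorem involution_unique (hG : Hy G) {S : Sylow 2 G} {A : Subgroup G} (hD : GenDih S A) :
    ∀ a ∈ A, ∀ b ∈ A, orderOf a = 2 → orderOf b = 2 → a = b := by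
  classical
  haveI : Fact (Nat.Prime 2) := ⟨Nat.prime_two⟩
  obtain ⟨g₀, e, heS, heA, hga⟩ := exists_conj_into hG hD
  by_contra hno
  push Not at hno
  obtain ⟨i₁, hi₁, i₂, hi₂, hi₁2, hi₂2, hne⟩ := hno
  have hS : IsPGroup 2 ↥(S : Subgroup G) := S.isPGroup'
  have hSA : ∀ a ∈ A, a ∈ (S : Subgroup G) := fun a ha => hD.hAS ha
  -- the involutions of `A` are central in `S`
  have hcent : ∀ ω ∈ A, ω * ω = 1 → ∀ s ∈ (S : Subgroup G), Commute s ω := by
    intro ω hω hω2 s hs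
    by_cases hsA : s ∈ A
    · exact hD.comm s hsA ω hω
    · have := (hD.inv s hs hsA).2 ω hω
      rw [inv_eq_of_mul_eq_one_right hω2, mul_inv_eq_iff_eq_mul] at this
      exact this
  have hi₁i : i₁ * i₁ = 1 := by rw [← pow_two, ← hi₁2, pow_orderOf_eq_one]
  have hi₂i : i₂ * i₂ = 1 := by rw [← pow_two, ← hi₂2, pow_orderOf_eq_one]
  -- centralizers in `S` of elements outside `A`
  have hout : ∀ s ∈ (S : Subgroup G), s ∉ A → ∀ x ∈ (S : Subgroup G), Commute x s →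
      (x ∈ A ∧ x * x = 1) ∨ (x * s ∈ A ∧ (x * s) * (x * s) = 1) := by
    intro s hs hsA x hx hxs
    have key : ∀ a ∈ A, Commute a s → a * a = 1 := fun a ha hc => by
      have h1 := (hD.inv s hs hsA).2 a ha
      rw [hc.symm.eq, mul_inv_cancel_right] at h1
      exact eq_inv_iff_mul_eq_one.1 h1
    by_cases hxA : x ∈ A
    · exact Or.inl ⟨hxA, key x hxA hxs⟩
    · have h := hD.idx x hx hxA s hs hsA
      exact Or.inr ⟨h, key _ h (hxs.mul_left (Commute.refl s))⟩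
  set V := (S : Subgroup G) ⊓ Subgroup.centralizer ({e} : Set G) with hV
  have hmV : ∀ x, x ∈ V ↔ x ∈ (S : Subgroup G) ∧ Commute x e := fun x => by
    rw [hV, Subgroup.mem_inf, Subgroup.mem_centralizer_singleton_iff]; rfl
  obtain ⟨he2, heinv⟩ := hD.inv e heS heA
  have hVel : ∀ x ∈ V, ∀ y ∈ V, x * x = 1 ∧ Commute x y := by
    have h1 : ∀ x ∈ V, ∃ ω ∈ A, ω * ω = 1 ∧ (x = ω ∨ x = ω * e) := by
      intro x hx
      obtain ⟨hxS, hxe⟩ := (hmV x).1 hx
      rcases hout e heS heA x hxS hxe with ⟨h, h'⟩ | ⟨h, h'⟩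
      · exact ⟨x, h, h', Or.inl rfl⟩
      · exact ⟨x * e, h, h', Or.inr (by rw [mul_assoc, he2, mul_one])⟩
    intro x hx y hy
    obtain ⟨ω, hω, hω2, hxω⟩ := h1 x hx
    obtain ⟨μ, hμ, hμ2, hyμ⟩ := h1 y hy
    have c1 := hcent ω hω hω2 e heS
    have c2 := hcent μ hμ hμ2 e heS
    have c3 := hD.comm ω hω μ hμ
    constructor
    · rcases hxω with h | h <;> rw [h]
      · exact hω2
      · rw [show ω * e * (ω * e) = ω * (e * ω) * e by group, c1.eq,
          show ω * (ω * e) * e = ω * ω * (e * e) by group, hω2, he2, one_mul]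
    · rcases hxω with h | h <;> rcases hyμ with h' | h' <;> rw [h, h']
      · exact c3
      · exact c3.mul_right c1.symm
      · exact c3.mul_left c2
      · exact (c3.mul_right c1.symm).mul_left (c2.mul_right (Commute.refl e))
  have hV2 : ∀ x ∈ V, x * x = 1 := fun x hx => (hVel x hx x hx).1
  have hVc : ∀ x ∈ V, ∀ y ∈ V, Commute x y := fun x hx y hy => (hVel x hx y hy).2
  have hΩV : ∀ ω ∈ A, ω * ω = 1 → ω ∈ V := fun ω hω h2 =>
    (hmV ω).2 ⟨hSA ω hω, (hcent ω hω h2 e heS).symm⟩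
  have heV : e ∈ V := (hmV e).2 ⟨heS, Commute.refl e⟩
  -- conjugates of `V` inside `S`
  have hconjV : ∀ h : G, (∀ v ∈ V, h⁻¹ * v * h ∈ (S : Subgroup G)) →
      (∃ v ∈ V, h⁻¹ * v * h ∉ A) ∧
      ∀ x ∈ (S : Subgroup G), ∀ v ∈ V, h⁻¹ * v * h ∉ A → Commute x (h⁻¹ * v * h) →
        h * x * h⁻¹ ∈ V := by
    intro h hh
    set f := (MulAut.conj h⁻¹).toMonoidHom
    set V' := V.map f with hV'
    have hV'mem : ∀ z, z ∈ V' ↔ h * z * h⁻¹ ∈ V := by
      intro z
      constructor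
      · rintro ⟨v, hv, rfl⟩
        simpa [f, mul_assoc] using hv
      · intro hz
        exact ⟨_, hz, by simp [f, mul_assoc]⟩
    set Ω := V ⊓ A
    have hcard : Nat.card V' = Nat.card V :=
      Subgroup.card_map_of_injective (MulAut.conj h⁻¹).injective
    have h1 : ∃ v ∈ V, h⁻¹ * v * h ∉ A := by
      by_contra hall
      push Not at hall
      have hle : V' ≤ Ω := by
        rintro _ ⟨v, hv, rfl⟩
        have hm : h⁻¹ * v * h ∈ A := hall v hv
        have h2 : h⁻¹ * v * h * (h⁻¹ * v * h) = 1 := by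
          rw [show h⁻¹ * v * h * (h⁻¹ * v * h) = h⁻¹ * (v * v) * h by group, hV2 v hv]; group
        rw [MulEquiv.coe_toMonoidHom, MulAut.conj_apply, inv_inv]
        exact Subgroup.mem_inf.2 ⟨hΩV _ hm h2, hm⟩
      have h3 : V ≤ A := by
        have := Subgroup.eq_of_le_of_card_ge (inf_le_left : Ω ≤ V)
          (hcard ▸ Subgroup.card_le_of_le hle)
        exact this ▸ inf_le_right
      exact heA (h3 heV)
    refine ⟨h1, fun x hx v hv hvA hc => ?_⟩
    rw [← hV'mem]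
    set s := h⁻¹ * v * h with hs
    have hsS : s ∈ (S : Subgroup G) := hh v hv
    set Z := (S : Subgroup G) ⊓ Subgroup.centralizer ({s} : Set G) with hZ
    have hle : V' ≤ Z := by
      intro z hz
      rw [hZ, Subgroup.mem_inf, Subgroup.mem_centralizer_singleton_iff]
      have hz' := (hV'mem z).1 hz
      refine ⟨?_, ?_⟩
      · have := hh _ hz'
        simpa [mul_assoc] using this
      · have := ((hVc _ hz' _ hv).map (MulAut.conj h⁻¹)).eq
        simpa [hs, mul_assoc] using this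
    -- `Z` is no larger than `V`
    have hcz : Nat.card Z ≤ Nat.card V' := by
      rw [hcard]
      let φ : Z → V := fun z =>
        if hzA : (z : G) ∈ A then ⟨z, hΩV _ hzA (by
          rcases hout s hsS hvA z z.2.1 (Subgroup.mem_centralizer_singleton_iff.1 z.2.2) with h | h
          · exact h.2
          · exact absurd ((mul_mem_cancel_left hzA).1 h.1) hvA)⟩
        else ⟨(z : G) * s * e, mul_mem (hΩV _ (hD.idx _ z.2.1 hzA s hsS hvA) (by
          rcases hout s hsS hvA z z.2.1 (Subgroup.mem_centralizer_singleton_iff.1 z.2.2) with h | h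
          · exact absurd h.1 hzA
          · exact h.2)) heV⟩
      refine Nat.card_le_card_of_injective φ ?_
      intro a b hab
      simp only [φ] at hab
      split_ifs at hab with ha hb hb <;> simp only [Subtype.mk.injEq] at hab
      · exact Subtype.ext hab
      · exact absurd ((mul_mem_cancel_left (hD.idx _ b.2.1 hb s hsS hvA)).1 (hab ▸ ha)) heA
      · exact absurd ((mul_mem_cancel_left (hD.idx _ a.2.1 ha s hsS hvA)).1 (hab.symm ▸ hb)) heA
      · exact Subtype.ext (mul_right_cancel (mul_right_cancel hab))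
    rw [Subgroup.eq_of_le_of_card_ge hle hcz, hZ, Subgroup.mem_inf,
      Subgroup.mem_centralizer_singleton_iff]
    exact ⟨hx, hc.eq⟩
  -- `V` is not a Sylow subgroup of `C(e)`
  set a := g₀ * e * g₀⁻¹ with ha
  have ha2 : a * a = 1 := by
    rw [ha, show g₀ * e * g₀⁻¹ * (g₀ * e * g₀⁻¹) = g₀ * (e * e) * g₀⁻¹ by group, he2]; group
  set C := Subgroup.centralizer ({e} : Set G) with hC
  set Q := (g₀⁻¹ • S : Sylow 2 G)
  have hQC : (Q : Subgroup G) ≤ C := by
    intro x hx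
    rw [Sylow.coe_subgroup_smul, Subgroup.mem_pointwise_smul_iff_inv_smul_mem, ← map_inv, inv_inv,
      MulAut.smul_def, MulAut.conj_apply] at hx
    rw [hC, Subgroup.mem_centralizer_singleton_iff]
    have h1 := ((hcent a hga ha2 _ hx).map (MulAut.conj g₀⁻¹)).eq
    simpa [ha, mul_assoc] using h1
  obtain ⟨T', hT'⟩ :=
    ((hS.to_le (inf_le_left : V ≤ _)).comap_subtype (K := C)).exists_le_sylow
  obtain ⟨c, hc⟩ := MulAction.exists_smul_eq ↥C (Q.subtype hQC) T'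
  set h₁ := (c : G) * g₀⁻¹ with hh₁
  have hVT : ∀ v ∈ V, h₁⁻¹ * v * h₁ ∈ (S : Subgroup G) := by
    intro v hv
    have hvC : v ∈ C := hV ▸ hv |>.2
    have hvT : (⟨v, hvC⟩ : C) ∈ ((c • Q.subtype hQC : Sylow 2 C) : Subgroup C) := hc.symm ▸ hT' hv
    rw [Sylow.coe_subgroup_smul, Subgroup.mem_pointwise_smul_iff_inv_smul_mem, ← map_inv,
      MulAut.smul_def, MulAut.conj_apply, inv_inv] at hvT
    have h2 : (c : G)⁻¹ * v * (c : G) ∈ (Q : Subgroup G) := hvT
    rw [Sylow.coe_subgroup_smul, Subgroup.mem_pointwise_smul_iff_inv_smul_mem, ← map_inv, inv_inv,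
      MulAut.smul_def, MulAut.conj_apply] at h2
    convert h2 using 1
    rw [hh₁]; group
  have hTC : ∀ x ∈ (S : Subgroup G), Commute (h₁ * x * h₁⁻¹) e := by
    intro x hx
    have h1 : g₀⁻¹ * x * g₀ ∈ C := hQC (by
      rw [Sylow.coe_subgroup_smul, Subgroup.mem_pointwise_smul_iff_inv_smul_mem, ← map_inv, inv_inv,
        MulAut.smul_def, MulAut.conj_apply]
      simpa [mul_assoc] using hx)
    have h2 := mul_mem (mul_mem c.2 h1) (inv_mem c.2)
    have h2 := Subgroup.mem_centralizer_singleton_iff.1 h2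
    show _ = _
    rw [hh₁]
    convert h2 using 2 <;> group
  set V₁ := V.map (MulAut.conj h₁⁻¹).toMonoidHom with hV₁
  have hV₁S : V₁ ≤ (S : Subgroup G) := by
    rintro _ ⟨v, hv, rfl⟩
    simpa using hVT v hv
  obtain ⟨y₀, hy₀, hy₀4⟩ := hD.four
  have hSV₁ : ¬ (S : Subgroup G) ≤ V₁ := by
    intro h
    obtain ⟨v, hv, hveq⟩ := h (hSA y₀ hy₀)
    apply (four_facts hy₀4).1
    rw [← hveq]
    rw [MulEquiv.coe_toMonoidHom, ← map_mul, hV2 v hv, map_one]
  obtain ⟨x₀, hx₀, hx₀V, hx₀n, -⟩ := exists_sq_mem hS hV₁S hSV₁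
  set z := h₁ * x₀ * h₁⁻¹ with hz
  obtain ⟨k₀, hk₀⟩ := orderOf_two_pow hS hx₀
  have hzn : z ∈ Subgroup.normalizer (V : Set G) := by
    rw [Subgroup.mem_normalizer_iff]
    intro v
    have h1 := Subgroup.mem_normalizer_iff.1 hx₀n (h₁⁻¹ * v * h₁)
    have e1 : ∀ w, h₁⁻¹ * w * h₁ ∈ V₁ ↔ w ∈ V := fun w => by
      constructor
      · rintro ⟨u, hu, he⟩
        have : u = w := (MulAut.conj h₁⁻¹).injective (by rw [← MulEquiv.coe_toMonoidHom, he]; simp)
        rwa [← this]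
      · exact fun hw => ⟨w, hw, by simp⟩
    rw [e1 v] at h1
    rw [h1, ← e1 (z * v * z⁻¹), hz]
    refine iff_of_eq (congrArg (· ∈ V₁) ?_)
    group
  have hze : Commute z e := hTC x₀ hx₀
  have hzV : ¬ ∀ v ∈ V, Commute z v := by
    intro hall
    obtain ⟨⟨v, hv, hvA⟩, hkey⟩ := hconjV h₁ hVT
    refine hx₀V ⟨z, hkey x₀ hx₀ v hv hvA ?_, by simp [hz, mul_assoc]⟩
    have := (hall v hv).map (MulAut.conj h₁⁻¹)
    simpa [hz, mul_assoc] using this
  -- the automorphisms induced on `V`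
  set W := Subgroup.normalizer (V : Set G) with hW
  set φ := V.normalizerMonoidHom with hφ
  have happ : ∀ (w : W) (v : V), ((φ w v : V) : G) = (w : G) * v * (w : G)⁻¹ := fun w v => rfl
  have hφ1 : ∀ w : W, φ w = 1 ↔ ∀ v ∈ V, Commute (w : G) v := by
    intro w
    constructor
    · intro h v hv
      have := congrArg (fun f : MulAut V => ((f ⟨v, hv⟩ : V) : G)) h
      simp only [happ, MulAut.one_apply] at this
      exact mul_inv_eq_iff_eq_mul.1 this
    · intro h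
      refine MulEquiv.ext fun v => Subtype.ext ?_
      rw [happ, (h v v.2).eq, mul_inv_cancel_right]; rfl
  -- an element of odd order fixing an involution acts trivially
  have hfix : ∀ w : W, Odd (orderOf (φ w)) → ∀ v ∈ V, v ≠ 1 → (w : G) * v * (w : G)⁻¹ = v →
      φ w = 1 := by
    intro w hw v hv hv1 hwv
    obtain ⟨k, m, hm, hk⟩ := Nat.exists_eq_pow_mul_and_not_dvd (orderOf_pos (w : G)).ne' 2 (by norm_num)
    have hv2 : orderOf v = 2 := orderOf_eq_prime (by rw [pow_two, hV2 v hv]) hv1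
    have hodd : Odd (orderOf ((w : G) ^ 2 ^ k)) := by
      rw [orderOf_pow_of_dvd (by positivity) (hk ▸ dvd_mul_right _ _), hk,
        Nat.mul_div_cancel_left _ (by positivity)]
      exact Nat.not_even_iff_odd.1 fun h => hm (even_iff_two_dvd.1 h)
    have hwvc : Commute ((w : G) ^ 2 ^ k) v := Commute.pow_left (mul_inv_eq_iff_eq_mul.1 hwv) _
    have h1 : φ (w ^ 2 ^ k) = 1 := by
      rw [hφ1]
      intro u hu
      show (w ^ 2 ^ k : W).1 * u = u * (w ^ 2 ^ k : W).1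
      rw [SubgroupClass.coe_pow]
      have hK : (w : G) ^ 2 ^ k ∈ oddC hG.toNc hv2 := ⟨hodd, hwvc⟩
      have h2 : (w : G) ^ 2 ^ k * (u * ((w : G) ^ 2 ^ k)⁻¹ * u⁻¹) ∈ oddC hG.toNc hv2 :=
        mul_mem hK (oddC_normal_mem hv2 (hVc u hu v hv) (inv_mem hK))
      have h3 : (w : G) ^ 2 ^ k * (u * ((w : G) ^ 2 ^ k)⁻¹ * u⁻¹) ∈ (S : Subgroup G) := by
        have h4 : (w : G) ^ 2 ^ k * u * ((w : G) ^ 2 ^ k)⁻¹ ∈ V :=
          conj_mem_of_normalizer (pow_mem w.2 _) hu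
        have h5 := (Subgroup.mem_inf.1 (hV ▸ mul_mem h4 (inv_mem hu))).1
        convert h5 using 1
        group
      have h4 := eq_one_of_mem hv2 hS h2 h3
      rw [show (w : G) ^ 2 ^ k * (u * ((w : G) ^ 2 ^ k)⁻¹ * u⁻¹) =
        (w : G) ^ 2 ^ k * u * ((w : G) ^ 2 ^ k)⁻¹ * u⁻¹ by group, mul_inv_eq_one,
        mul_inv_eq_iff_eq_mul] at h4
      exact h4
    rw [map_pow] at h1
    exact orderOf_eq_one_iff.1 (Nat.eq_one_of_dvd_coprimes (((Nat.coprime_two_left.2 hw)).pow_left k)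
      (orderOf_dvd_of_pow_eq_one h1) dvd_rfl)
  -- a Sylow subgroup of `N(V)` containing `N_S(V)`
  obtain ⟨P₀, hP₀⟩ := (hS.comap_subtype (K := W)).exists_le_sylow
  obtain ⟨T₀, hT₀⟩ := (P₀.isPGroup'.map W.subtype).exists_le_sylow
  obtain ⟨h, hh⟩ := MulAction.exists_smul_eq G S T₀
  have hP₀S : ∀ p ∈ (P₀ : Subgroup W), h⁻¹ * (p : G) * h ∈ (S : Subgroup G) := by
    intro p hp
    have h1 : (p : G) ∈ (h • S : Sylow 2 G) := hh.symm ▸ hT₀ ⟨p, hp, rfl⟩
    rw [← SetLike.mem_coe, ← Sylow.coe_coe, SetLike.mem_coe, Sylow.coe_subgroup_smul,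
      Subgroup.mem_pointwise_smul_iff_inv_smul_mem, ← map_inv, MulAut.smul_def, MulAut.conj_apply,
      inv_inv] at h1
    exact h1
  have hVW : ∀ v ∈ V, v ∈ W := fun v hv => Subgroup.le_normalizer hv
  have hVP : ∀ v (hv : v ∈ V), (⟨v, hVW v hv⟩ : W) ∈ (P₀ : Subgroup W) := fun v hv =>
    hP₀ (show v ∈ (S : Subgroup G) from ((hmV v).1 hv).1)
  have hVS₀ : ∀ v ∈ V, h⁻¹ * v * h ∈ (S : Subgroup G) := fun v hv => hP₀S _ (hVP v hv)
  obtain ⟨⟨s₀, hs₀, hs₀A⟩, hkey₀⟩ := hconjV h hVS₀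
  have hΩ₀ : ∀ ω ∈ A, ω * ω = 1 → h * ω * h⁻¹ ∈ V := fun ω hω h2 =>
    hkey₀ ω (hSA ω hω) s₀ hs₀ hs₀A (hcent ω hω h2 _ (hVS₀ s₀ hs₀)).symm
  set Ω₀ : Subgroup G := V ⊓ A.map (MulAut.conj h).toMonoidHom with hΩ₀def
  have hmΩ₀ : ∀ x, x ∈ Ω₀ ↔ x ∈ V ∧ h⁻¹ * x * h ∈ A := by
    intro x
    rw [hΩ₀def, Subgroup.mem_inf]
    refine and_congr_right fun _ => ⟨?_, fun hx => ⟨_, hx, by simp [mul_assoc]⟩⟩
    rintro ⟨a, ha, rfl⟩
    simpa [mul_assoc] using ha
  have hsq : ∀ x ∈ V, h⁻¹ * x * h * (h⁻¹ * x * h) = 1 := fun x hx => by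
    rw [show h⁻¹ * x * h * (h⁻¹ * x * h) = h⁻¹ * (x * x) * h by group, hV2 x hx]; group
  -- `Ω₀` is fixed by `P₀`, whose image is abelian
  have hfix₀ : ∀ p ∈ (P₀ : Subgroup W), ∀ x ∈ Ω₀, (p : G) * x * (p : G)⁻¹ = x := by
    intro p hp x hx
    obtain ⟨hxV, hxA⟩ := (hmΩ₀ x).1 hx
    have h2 := ((hcent _ hxA (hsq x hxV) _ (hP₀S p hp)).map (MulAut.conj h)).eq
    simp only [MulAut.conj_apply, mul_assoc, mul_inv_cancel, mul_one, mul_inv_cancel_left] at h2
    rw [mul_inv_eq_iff_eq_mul]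
    exact h2
  set Wb := φ.range with hWb
  set ρ := φ.rangeRestrict with hρ
  have hρsurj : Function.Surjective ρ := φ.rangeRestrict_surjective
  set Pb : Sylow 2 Wb := P₀.mapSurjective hρsurj with hPb
  have hPbmem : ∀ q, q ∈ (Pb : Subgroup Wb) ↔ ∃ p ∈ (P₀ : Subgroup W), ρ p = q := fun q => by
    rw [hPb, Sylow.coe_mapSurjective]; exact Subgroup.mem_map
  have hPbab : ∀ p ∈ (Pb : Subgroup Wb), ∀ q ∈ (Pb : Subgroup Wb), Commute p q := by
    have hrep : ∀ p ∈ (P₀ : Subgroup W), ∃ p' : W, h⁻¹ * (p' : G) * h ∈ A ∧ ρ p' = ρ p := by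
      intro p hp
      by_cases hpA : h⁻¹ * (p : G) * h ∈ A
      · exact ⟨p, hpA, rfl⟩
      refine ⟨p * ⟨s₀, hVW s₀ hs₀⟩, ?_, ?_⟩
      · rw [Subgroup.coe_mul, show h⁻¹ * ((p : G) * s₀) * h = h⁻¹ * (p : G) * h * (h⁻¹ * s₀ * h) by group]
        exact hD.idx _ (hP₀S p hp) hpA _ (hVS₀ s₀ hs₀) hs₀A
      · rw [map_mul, show ρ ⟨s₀, hVW s₀ hs₀⟩ = 1 from
          Subtype.ext ((hφ1 _).2 fun v hv => hVc s₀ hs₀ v hv), mul_one]
    intro p hp q hq
    obtain ⟨p₁, hp₁, rfl⟩ := (hPbmem p).1 hp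
    obtain ⟨q₁, hq₁, rfl⟩ := (hPbmem q).1 hq
    obtain ⟨p', hp', e1⟩ := hrep p₁ hp₁
    obtain ⟨q', hq', e2⟩ := hrep q₁ hq₁
    rw [← e1, ← e2]
    have hc' : Commute p' q' := by
      have h1 := (hD.comm _ hp' _ hq').map (MulAut.conj h)
      refine Subtype.ext ?_
      simpa [mul_assoc] using h1.eq
    exact hc'.map ρ
  -- a nontrivial element of order a power of two
  have hnontriv : ∃ τ ∈ (Pb : Subgroup Wb), τ ≠ 1 := by
    by_contra hall
    push Not at hall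
    have hbot : (Pb : Subgroup Wb) = ⊥ := (Subgroup.eq_bot_iff_forall _).2 hall
    apply hzV
    intro v hv
    refine ((hφ1 ⟨z, hzn⟩).1 ?_) v hv
    have hz2 : ∃ k, orderOf z = 2 ^ k := ⟨k₀, by
      rw [hz, show h₁ * x₀ * h₁⁻¹ = MulAut.conj h₁ x₀ from rfl, MulEquiv.orderOf_eq, hk₀]⟩
    obtain ⟨k, hk⟩ := hz2
    have h1 : orderOf (ρ ⟨z, hzn⟩) ∣ 2 ^ k := hk ▸ Subgroup.orderOf_mk z hzn ▸ orderOf_map_dvd ρ _
    have h2 := orderOf_dvd_natCard (ρ ⟨z, hzn⟩)
    have h3 : Nat.Coprime (2 ^ k) (Nat.card Wb) := by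
      refine (Nat.Coprime.pow_left k ((Nat.prime_two.coprime_iff_not_dvd).2 fun h2' => ?_))
      have := Pb.dvd_card_of_dvd_card h2'
      rw [hbot, Subgroup.card_bot] at this
      omega
    exact congrArg Subtype.val (orderOf_eq_one_iff.1 (Nat.eq_one_of_dvd_coprimes h3 h1 h2))
  -- the fixed points of `P₀` in `V`
  have hcoset : ∀ x ∈ V, x ∉ Ω₀ → x * s₀ ∈ Ω₀ := by
    intro x hx hxΩ
    refine (hmΩ₀ _).2 ⟨mul_mem hx hs₀, ?_⟩
    rw [show h⁻¹ * (x * s₀) * h = h⁻¹ * x * h * (h⁻¹ * s₀ * h) by group]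
    exact hD.idx _ (hVS₀ x hx) (fun hh => hxΩ ((hmΩ₀ x).2 ⟨hx, hh⟩)) _ (hVS₀ s₀ hs₀) hs₀A
  have hFix : ∀ x ∈ V, (∀ p ∈ (P₀ : Subgroup W), (p : G) * x * (p : G)⁻¹ = x) → x ∈ Ω₀ := by
    intro x hx hxfix
    by_contra hxΩ
    obtain ⟨τ, hτ, hτ1⟩ := hnontriv
    obtain ⟨p, hp, rfl⟩ := (hPbmem τ).1 hτ
    refine hτ1 (Subtype.ext ((hφ1 p).2 fun v hv => ?_))
    have hpx : Commute (p : G) x := mul_inv_eq_iff_eq_mul.1 (hxfix p hp)
    by_cases hvΩ : v ∈ Ω₀
    · exact mul_inv_eq_iff_eq_mul.1 (hfix₀ p hp v hvΩ)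
    · have h1 : Commute (p : G) (v * s₀) := mul_inv_eq_iff_eq_mul.1 (hfix₀ p hp _ (hcoset v hv hvΩ))
      have h2 : Commute (p : G) (x * s₀) := mul_inv_eq_iff_eq_mul.1 (hfix₀ p hp _ (hcoset x hx hxΩ))
      have := (h1.mul_right h2.inv_right).mul_right hpx
      rwa [show v * s₀ * (x * s₀)⁻¹ * x = v by group] at this
  -- elements of odd order normalising `Pb` are trivial
  have hoddN : ∀ q : Wb, Odd (orderOf q) →
      q ∈ Subgroup.normalizer ((Pb : Subgroup Wb) : Set Wb) → q = 1 := by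
    intro q hq hqn
    obtain ⟨k, rfl⟩ := hρsurj q
    have hqφ : Odd (orderOf (φ k)) := by
      rw [← φ.coe_rangeRestrict k, Subgroup.orderOf_coe]; exact hq
    refine Subtype.ext ?_
    show φ k = 1
    by_cases hs1 : φ k ⟨s₀, hs₀⟩ = ⟨s₀, hs₀⟩
    · exact hfix k hqφ s₀ hs₀ (fun e => hs₀A (by rw [e]; simp)) (congrArg Subtype.val hs1)
    -- `k` preserves `Ω₀`
    have hkΩ : ∀ x ∈ Ω₀, (k : G) * x * (k : G)⁻¹ ∈ Ω₀ := by
      intro x hx
      have hxV := ((hmΩ₀ x).1 hx).1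
      refine hFix _ (conj_mem_of_normalizer k.2 hxV) fun p hp => ?_
      have hm : (ρ k)⁻¹ * ρ p * ρ k ∈ (Pb : Subgroup Wb) := by
        have := conj_mem_of_normalizer (inv_mem hqn) ((hPbmem _).2 ⟨p, hp, rfl⟩)
        rwa [inv_inv] at this
      obtain ⟨p', hp', e'⟩ := (hPbmem _).1 hm
      have e2 : φ p * φ k = φ k * φ p' := by
        have : ρ p * ρ k = ρ k * ρ p' := by rw [e']; group
        exact congrArg Subtype.val this
      have e3 := congrArg (fun f : MulAut V => ((f ⟨x, hxV⟩ : V) : G)) e2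
      simp only [MulAut.mul_apply, happ] at e3
      rw [hfix₀ p' hp' x hx] at e3
      exact e3
    -- averaging gives a fixed point outside `Ω₀`
    set f := φ k with hf
    have hfV : ∀ i : ℕ, ((f ^ i) ⟨s₀, hs₀⟩ : G) * s₀ ∈ Ω₀ := by
      intro i
      induction i with
      | zero => simp only [pow_zero, MulAut.one_apply]; rw [hV2 s₀ hs₀]; exact one_mem _
      | succ i ih =>
        have h1 : (k : G) * (((f ^ i) ⟨s₀, hs₀⟩ : G) * s₀) * (k : G)⁻¹ ∈ Ω₀ := hkΩ _ ih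
        have h2 : ((f ^ (i + 1)) ⟨s₀, hs₀⟩ : G) = (k : G) * ((f ^ i) ⟨s₀, hs₀⟩ : G) * (k : G)⁻¹ := by
          rw [pow_succ', MulAut.mul_apply]; exact happ k _
        have h3 : (k : G) * s₀ * (k : G)⁻¹ ∉ Ω₀ := by
          intro h3
          have hΩfin : ∀ x ∈ V, (k : G) * x * (k : G)⁻¹ ∈ Ω₀ → x ∈ Ω₀ := by
            intro x hx hkx
            have hle : Ω₀.map (MulAut.conj (k : G)).toMonoidHom ≤ Ω₀ := by
              rintro _ ⟨y, hy, rfl⟩; exact hkΩ y hy
            have heq := Subgroup.eq_of_le_of_card_ge hle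
              (by rw [Subgroup.card_map_of_injective (MulAut.conj (k : G)).injective])
            rw [← heq] at hkx
            obtain ⟨y, hy, hyx⟩ := hkx
            have : y = x := (MulAut.conj (k : G)).injective hyx
            rwa [← this]
          exact hs₀A ((hmΩ₀ s₀).1 (hΩfin s₀ hs₀ h3)).2
        have h4 : (k : G) * s₀ * (k : G)⁻¹ * s₀ ∈ Ω₀ :=
          hcoset _ (conj_mem_of_normalizer k.2 hs₀) h3
        have := mul_mem h1 h4
        convert this using 1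
        rw [h2]
        set b := ((f ^ i) ⟨s₀, hs₀⟩ : G)
        calc (k : G) * b * (k : G)⁻¹ * s₀ = (k : G) * b * (s₀ * s₀) * (k : G)⁻¹ * s₀ := by
              rw [hV2 s₀ hs₀, mul_one]
          _ = _ := by group
    set m := orderOf f with hm
    set Vc : CommGroup V := { (inferInstance : Group V) with
      mul_comm := fun x y => Subtype.ext (hVc _ x.2 _ y.2).eq }
    letI := Vc
    set P := ∏ i ∈ Finset.range m, (f ^ i) ⟨s₀, hs₀⟩ with hP
    have hPfix : f P = P := by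
      rw [hP, map_prod]
      have h1 : ∀ i, f ((f ^ i) ⟨s₀, hs₀⟩) = (f ^ (i + 1)) ⟨s₀, hs₀⟩ := fun i => by
        rw [pow_succ', MulAut.mul_apply]
      simp only [h1]
      have h2 := Finset.prod_range_succ' (fun i => (f ^ i) ⟨s₀, hs₀⟩) m
      have h3 := Finset.prod_range_succ (fun i => (f ^ i) ⟨s₀, hs₀⟩) m
      rw [h2] at h3
      have h4 : (f ^ m) ⟨s₀, hs₀⟩ = (f ^ 0) ⟨s₀, hs₀⟩ := by rw [hm, pow_orderOf_eq_one, pow_zero]
      rw [h4] at h3
      exact mul_right_cancel h3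
    have hPΩ : ∀ n : ℕ, ((∏ i ∈ Finset.range n, (f ^ i) ⟨s₀, hs₀⟩ : V) : G) * s₀ ^ n ∈ Ω₀ := by
      intro n
      induction n with
      | zero => simp
      | succ n ih =>
        have h5 := mul_mem ih (hfV n)
        rw [Finset.prod_range_succ, Subgroup.coe_mul, pow_succ]
        convert h5 using 1
        have h6 : Commute ((f ^ n) ⟨s₀, hs₀⟩ : G) (s₀ ^ n) :=
          (hVc _ ((f ^ n) ⟨s₀, hs₀⟩).2 _ hs₀).pow_right n
        rw [mul_assoc, mul_assoc, ← mul_assoc ((f ^ n) ⟨s₀, hs₀⟩ : G), h6.eq]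
        group
    have hPnot : (P : G) ∉ Ω₀ := by
      intro hPΩ'
      have h7 := hPΩ m
      rw [(mul_mem_cancel_left hPΩ')] at h7
      obtain ⟨j, hj⟩ := (show Odd m from hm ▸ hqφ)
      rw [hj, pow_succ, pow_mul, pow_two, hV2 s₀ hs₀, one_pow, one_mul] at h7
      exact hs₀A ((hmΩ₀ s₀).1 h7).2
    exact hfix k hqφ P P.2 (fun e => hPnot (e ▸ one_mem _)) (congrArg Subtype.val hPfix)
  -- Burnside
  have hNC : Subgroup.normalizer ((Pb : Subgroup Wb) : Set Wb) ≤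
      Subgroup.centralizer ((Pb : Subgroup Wb) : Set Wb) := by
    have hp : IsPGroup 2 ↥(Subgroup.normalizer ((Pb : Subgroup Wb) : Set Wb)) := by
      intro q
      obtain ⟨k, m, hm, hk⟩ := Nat.exists_eq_pow_mul_and_not_dvd (orderOf_pos q).ne' 2 (by norm_num)
      refine ⟨k, Subtype.ext (hoddN _ ?_ (q ^ 2 ^ k).2)⟩
      rw [Subgroup.orderOf_coe, orderOf_pow_of_dvd (by positivity) (hk ▸ dvd_mul_right _ _), hk,
        Nat.mul_div_cancel_left _ (by positivity)]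
      exact Nat.not_even_iff_odd.1 fun h => hm (even_iff_two_dvd.1 h)
    have heq := Pb.is_maximal' hp Subgroup.le_normalizer
    intro q hq
    rw [Subgroup.mem_centralizer_iff]
    exact fun p hp' => (hPbab p hp' q (heq ▸ hq)).eq
  have hcompl := MonoidHom.ker_transferSylow_isComplement' Pb hNC
  set K := (MonoidHom.transferSylow Pb hNC).ker with hK
  have hKodd : ∀ q ∈ K, Odd (orderOf q) := by
    intro q hq
    refine (Nat.coprime_two_left.1 ?_ : Odd (Nat.card K)).of_dvd_nat (Subgroup.orderOf_dvd_natCard K hq)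
    rw [Nat.prime_two.coprime_iff_not_dvd]
    exact MonoidHom.not_dvd_card_ker_transferSylow Pb hNC
  by_cases hall : ∀ τ ∈ (Pb : Subgroup Wb), ∀ q ∈ K, Commute τ q
  · -- `Pb` is everything, so `N(V)` fixes `Ω₀`
    have htop : ∀ q : Wb, q ∈ (Pb : Subgroup Wb) := by
      have hK1 : K = ⊥ := by
        rw [Subgroup.eq_bot_iff_forall]
        intro q hq
        refine hoddN q (hKodd q hq) (Subgroup.mem_normalizer_iff.2 fun τ => ?_)
        constructor
        · intro hτ; rwa [← (hall τ hτ q hq).eq, mul_inv_cancel_right]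
        · intro hτ
          have h8 := (hall _ hτ q hq).eq
          rw [inv_mul_cancel_right] at h8
          have h9 : q * τ * q⁻¹ = τ := (mul_left_cancel h8).symm
          rwa [h9] at hτ
      rw [hK1] at hcompl
      exact fun q => (Subgroup.isComplement'_bot_left.1 hcompl).symm ▸ Subgroup.mem_top q
    have hWfix : ∀ w : W, ∀ x ∈ Ω₀, (w : G) * x * (w : G)⁻¹ = x := by
      intro w x hx
      obtain ⟨p, hp, hpw⟩ := (hPbmem _).1 (htop (ρ w))
      have := congrArg (fun f : Wb => ((f.1 ⟨x, ((hmΩ₀ x).1 hx).1⟩ : V) : G)) hpw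
      simp only [hρ, MonoidHom.coe_rangeRestrict, happ] at this
      rw [← this]
      exact hfix₀ p hp x hx
    have hy₀V : y₀ ∈ W := by
      rw [hW, Subgroup.mem_normalizer_iff]
      have key : ∀ y ∈ A, ∀ v ∈ V, y * y * (y * y) = 1 → y * v * y⁻¹ ∈ V := by
        intro y hy v hv hy4
        rcases hout e heS heA v ((hmV v).1 hv).1 ((hmV v).1 hv).2 with ⟨hvA, hv2⟩ | ⟨hvA, hv2⟩
        · rw [(hcent v hvA hv2 y (hSA y hy)).eq, mul_inv_cancel_right]; exact hv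
        · have hye : y * e * y⁻¹ = y * y * e := by
            have h1 := heinv y hy
            have h2 : e * y⁻¹ = y * e := by
              calc e * y⁻¹ = e * (e * y * e⁻¹) := by rw [h1]
                _ = (e * e) * y * e⁻¹ := by group
                _ = y * e := by rw [he2, inv_eq_of_mul_eq_one_right he2, one_mul]
            rw [mul_assoc, h2]; group
          have hvee : v = v * e * e := by rw [mul_assoc, he2, mul_one]
          rw [hvee, show y * (v * e * e) * y⁻¹ = y * (v * e) * y⁻¹ * (y * e * y⁻¹) by group,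
            (hcent _ hvA hv2 y (hSA y hy)).eq, mul_inv_cancel_right, hye]
          exact mul_mem (hΩV _ hvA hv2) (mul_mem (hΩV _ (mul_mem hy hy) hy4) heV)
      intro v
      refine ⟨fun hv => key y₀ hy₀ v hv (four_facts hy₀4).2.1, fun hv => ?_⟩
      have := key y₀⁻¹ (inv_mem hy₀) _ hv (by rw [← mul_inv_rev, ← mul_inv_rev, (four_facts hy₀4).2.1, inv_one])
      simpa [mul_assoc] using this
    -- the fixed points of `y₀` are the involutions of `A`
    have hΩ₀A : Ω₀ ≤ V ⊓ A := by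
      intro x hx
      have hxV := ((hmΩ₀ x).1 hx).1
      refine ⟨hxV, ?_⟩
      have hfixy : Commute y₀ x := mul_inv_eq_iff_eq_mul.1 (hWfix ⟨y₀, hy₀V⟩ x hx)
      rcases hout e heS heA x ((hmV x).1 hxV).1 ((hmV x).1 hxV).2 with ⟨hxA, -⟩ | ⟨hxA, hx2⟩
      · exact hxA
      · exfalso
        have hye : Commute y₀ e := by
          have := hfixy.inv_right.mul_right (hcent _ hxA hx2 y₀ (hSA y₀ hy₀))
          rwa [inv_mul_cancel_left] at this
        have h1 := heinv y₀ hy₀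
        rw [← hye.eq, mul_inv_cancel_right] at h1
        exact (four_facts hy₀4).1 (eq_inv_iff_mul_eq_one.1 h1)
    have hΩeq : Ω₀ = V ⊓ A := by
      refine Subgroup.eq_of_le_of_card_ge hΩ₀A ?_
      refine Nat.card_le_card_of_injective
        (fun x : (V ⊓ A : Subgroup G) => (⟨h * x * h⁻¹, (hmΩ₀ _).2
          ⟨hΩ₀ x x.2.2 (hV2 x x.2.1), by simpa [mul_assoc] using x.2.2⟩⟩ : Ω₀)) ?_
      intro x y hxy
      simpa using congrArg Subtype.val hxy
    apply hzV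
    intro v hv
    have hΩc : ∀ w ∈ A, w * w = 1 → Commute z w := fun w hw hw2 =>
      mul_inv_eq_iff_eq_mul.1 (hWfix ⟨z, hzn⟩ w (hΩeq ▸ ⟨hΩV w hw hw2, hw⟩))
    rcases hout e heS heA v ((hmV v).1 hv).1 ((hmV v).1 hv).2 with ⟨hvA, hv2⟩ | ⟨hvA, hv2⟩
    · exact hΩc v hvA hv2
    · have := (hΩc _ hvA hv2).mul_right hze
      rwa [mul_assoc, he2, mul_one] at this
  · -- two fixed subgroups of index two meet
    push Not at hall
    obtain ⟨τ, hτ, q, hq, hnc⟩ := hall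
    obtain ⟨p, hp, rfl⟩ := (hPbmem τ).1 hτ
    obtain ⟨k, rfl⟩ := hρsurj q
    have hm : ρ p * (ρ k * (ρ p)⁻¹ * (ρ k)⁻¹) ∈ K := by
      rw [show ρ p * (ρ k * (ρ p)⁻¹ * (ρ k)⁻¹) = ρ p * ρ k * (ρ p)⁻¹ * (ρ k)⁻¹ by group]
      exact mul_mem ((MonoidHom.normal_ker _).conj_mem _ hq _) (inv_mem hq)
    have hodd := hKodd _ hm
    rw [← map_inv, ← map_inv, ← map_mul, ← map_mul, ← map_mul] at hodd
    set w := p * (k * p⁻¹ * k⁻¹) with hw
    -- an involution of `Ω₀ ∩ kΩ₀k⁻¹`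
    obtain ⟨x, hx, hx1, hxk⟩ : ∃ x ∈ Ω₀, x ≠ 1 ∧ (k : G)⁻¹ * x * (k : G) ∈ Ω₀ := by
      have hi₁' := (hmΩ₀ _).2 ⟨hΩ₀ i₁ hi₁ hi₁i, by simpa [mul_assoc] using hi₁⟩
      have hi₂' := (hmΩ₀ _).2 ⟨hΩ₀ i₂ hi₂ hi₂i, by simpa [mul_assoc] using hi₂⟩
      set x₁ := h * i₁ * h⁻¹ with hx₁
      set x₂ := h * i₂ * h⁻¹ with hx₂
      have hVk : ∀ x ∈ Ω₀, (k : G)⁻¹ * x * (k : G) ∈ V := fun x hx => by
        have := conj_mem_of_normalizer (inv_mem k.2) ((hmΩ₀ x).1 hx).1
        rwa [inv_inv] at this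
      by_cases h1 : (k : G)⁻¹ * x₁ * (k : G) ∈ Ω₀
      · exact ⟨x₁, hi₁', fun e => by
          rw [hx₁, conj_eq_one_iff] at e; rw [e, orderOf_one] at hi₁2; omega, h1⟩
      by_cases h2 : (k : G)⁻¹ * x₂ * (k : G) ∈ Ω₀
      · exact ⟨x₂, hi₂', fun e => by
          rw [hx₂, conj_eq_one_iff] at e; rw [e, orderOf_one] at hi₂2; omega, h2⟩
      refine ⟨x₁ * x₂, mul_mem hi₁' hi₂', fun e => hne ?_, ?_⟩
      · rw [hx₁, hx₂, show h * i₁ * h⁻¹ * (h * i₂ * h⁻¹) = h * (i₁ * i₂) * h⁻¹ by group,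
          conj_eq_one_iff, mul_eq_one_iff_eq_inv, inv_eq_of_mul_eq_one_right hi₂i] at e
        exact e
      · have := mul_mem (hcoset _ (hVk _ hi₁') h1) (hcoset _ (hVk _ hi₂') h2)
        convert this using 1
        set a₁ := (k : G)⁻¹ * x₁ * (k : G)
        set a₂ := (k : G)⁻¹ * x₂ * (k : G)
        rw [show a₁ * s₀ * (a₂ * s₀) = a₁ * (s₀ * a₂) * s₀ by group, (hVc s₀ hs₀ _ (hVk _ hi₂')).eq,
          show a₁ * (a₂ * s₀) * s₀ = a₁ * a₂ * (s₀ * s₀) by group, hV2 s₀ hs₀, mul_one]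
        simp only [a₁, a₂]; group
    have hwx : (w : G) * x * (w : G)⁻¹ = x := by
      have e1 := hfix₀ p hp x hx
      have e2 := hfix₀ p hp _ hxk
      have e3 : (p : G)⁻¹ * ((k : G)⁻¹ * x * (k : G)) * (p : G) = (k : G)⁻¹ * x * (k : G) := by
        conv_lhs => rw [← e2]
        group
      calc (w : G) * x * (w : G)⁻¹ = (p : G) * ((k : G) * ((p : G)⁻¹ * ((k : G)⁻¹ * x * (k : G)) * (p : G)) *
            (k : G)⁻¹) * (p : G)⁻¹ := by rw [hw]; simp only [Subgroup.coe_mul, Subgroup.coe_inv]; group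
        _ = (p : G) * x * (p : G)⁻¹ := by rw [e3]; group
        _ = x := e1
    have hw1 : φ w = 1 := hfix w (by rw [← φ.coe_rangeRestrict w, Subgroup.orderOf_coe]; exact hodd)
      x ((hmΩ₀ x).1 hx).1 hx1 hwx
    apply hnc
    have h2 : ρ w = 1 := Subtype.ext hw1
    rw [hw, map_mul, map_mul, map_mul, map_inv, map_inv] at h2
    show ρ p * ρ k = ρ k * ρ p
    rwa [show ρ p * (ρ k * (ρ p)⁻¹ * (ρ k)⁻¹) = ρ p * ρ k * (ρ p)⁻¹ * (ρ k)⁻¹ by group, mul_inv_eq_one,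
      mul_inv_eq_iff_eq_mul] at h2

/-- The recognition splits into the linear case and the dihedral data. -/
theorem dichotomy (hG : Hy G) [Nontrivial G] (S : Sylow 2 G) :
    Concl G ∨ ∃ t R, Dih hG.toNc S t R := by
  haveI : Fact (Nat.Prime 2) := ⟨Nat.prime_two⟩
  by_cases hab : ∀ a ∈ (S : Subgroup G), ∀ b ∈ (S : Subgroup G), Commute a b
  · exact (abelian_case hG S hab).2
  obtain ⟨A, h1, h2, h3, h4, h5, h6⟩ := exists_gen_dihedral hG S hab
  have hD : GenDih S A := ⟨h1, h2, h3, h4, h5, h6⟩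
  have huniq := involution_unique hG hD
  have hS : IsPGroup 2 ↥(S : Subgroup G) := S.isPGroup'
  obtain ⟨⟨a, haA⟩, -, ha⟩ := OneInvol.exists_zpowers_eq (R := ↥A) (hS.to_le h1)
    (A := ⊤) (fun x _ y _ => Subtype.ext (h2 _ x.2 _ y.2).eq)
    (fun u v hu hv => Subtype.ext (huniq _ u.2 _ v.2 (by rwa [Subgroup.orderOf_coe])
      (by rwa [Subgroup.orderOf_coe])))
  have hAa : ∀ x ∈ A, x ∈ Subgroup.zpowers a := by
    intro x hx
    have hm : (⟨x, hx⟩ : A) ∈ Subgroup.zpowers (⟨a, haA⟩ : A) := ha ▸ Subgroup.mem_top _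
    obtain ⟨i, hi⟩ := Subgroup.mem_zpowers_iff.1 hm
    exact Subgroup.mem_zpowers_iff.2 ⟨i, by simpa using congrArg Subtype.val hi⟩
  have hAeq : A = Subgroup.zpowers a := le_antisymm hAa (Subgroup.zpowers_le.2 haA)
  obtain ⟨y, hy, hy4⟩ := h6
  obtain ⟨hyy, hyy2, ht⟩ := four_facts hy4
  set t := y * y
  have htA : t ∈ A := mul_mem hy hy
  have hcentral : ∀ s ∈ (S : Subgroup G), Commute s t := by
    intro s hs
    by_cases hsA : s ∈ A
    · exact h2 s hsA t htA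
    · have := (h4 s hs hsA).2 t htA
      rw [inv_eq_of_mul_eq_one_right hyy2, mul_inv_eq_iff_eq_mul] at this
      exact this
  have hcR : ∀ r ∈ A, ∀ o ∈ oddC hG.toNc ht, Commute r o := by
    intro r hr o ho
    have h7 : o * r * o⁻¹ ∈ Subgroup.zpowers r ∨ r = 1 := by
      by_cases hr1 : r = 1
      · exact Or.inr hr1
      obtain ⟨j, hj, hjr⟩ := exists_invol_zpowers hS (h1 hr) hr1
      have hjt : j = t := huniq j (Subgroup.zpowers_le.2 hr hjr) t htA hj ht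
      exact Or.inl (conj_mem_zpowers hG.toNc ht (hjt ▸ hjr) (Subgroup.mem_zpowers r) ho.2)
    rcases h7 with h7 | rfl
    · have h8 : o * r * o⁻¹ * r⁻¹ ∈ oddC hG.toNc ht := by
        rw [show o * r * o⁻¹ * r⁻¹ = o * (r * o⁻¹ * r⁻¹) by group]
        exact mul_mem ho (oddC_normal_mem ht (hcentral r (h1 hr)) (inv_mem ho))
      have h9 := eq_one_of_mem ht hS h8
        (mul_mem (Subgroup.zpowers_le.2 (h1 hr) h7) (inv_mem (h1 hr)))
      rw [mul_inv_eq_one, mul_inv_eq_iff_eq_mul] at h9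
      exact h9.symm
    · exact Commute.one_left o
  refine Or.inr ⟨t, A, ?_⟩
  exact
    { ht := ht
      htR := htA
      hRS := h1
      cyc := hAeq ▸ inferInstance
      central := hcentral
      out := h3
      inv := h4
      idx := h5
      cR := hcR
      invO := fun s hs hsA => by
        obtain ⟨hs2, hsinv⟩ := h4 s hs hsA
        have hso : orderOf s = 2 := orderOf_eq_prime (by rw [pow_two, hs2])
          (fun e => hsA (e ▸ one_mem A))
        refine Invol.GL23.inverts_of_fixed_free hs2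
          (fun o ho => oddC_normal_mem ht (hcentral s hs) ho) fun o ho hc => ?_
        by_contra ho1
        have h7 := (commute_iff_of_odd hG.toNc ht hso ho.1 ho1 ho.2 (hc.symm : Commute o s)).1
          (hcentral y (h1 hy))
        have h8 := hsinv y hy
        rw [h7.symm.eq, mul_inv_cancel_right] at h8
        exact hyy (eq_inv_iff_mul_eq_one.1 h8) }

end Cfsg.Agent.Transfer.NormCyc
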