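import Cfsg.Agent.Lib.Transfer.NormCyc.Local
import Cfsg.Agent.S0215
import Cfsg.Agent.Lib.Invol.Sylow

/-!
The structure of a nonabelian Sylow 2-subgroup: it is generalized dihedral.
-/

set_option autoImplicit false
set_option linter.unusedSectionVars false

namespace Cfsg.Agent.Transfer.NormCyc

universe u

variable {G : Type u} [Group G] [Finite G]

theorem four_facts {y : G} (hy : orderOf y = 4) :
    y * y ≠ 1 ∧ y * y * (y * y) = 1 ∧ orderOf (y * y) = 2 := by
  have h2 : orderOf (y * y) = 2 := by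
    rw [← pow_two, orderOf_pow_of_dvd two_ne_zero (by rw [hy]; norm_num), hy]
  refine ⟨fun h => ?_, ?_, h2⟩
  · rw [h, orderOf_one] at h2; omega
  · rw [← pow_two (y * y), ← h2, pow_orderOf_eq_one]

/-- A nontrivial element of a cyclic group of order four is the involution or squares to it. -/
theorem mem_four_cases {y c : G} (hy : orderOf y = 4) (hc : c ∈ Subgroup.zpowers y) :
    c = 1 ∨ c = y ∨ c = y * y ∨ c = y⁻¹ := by
  classical
  obtain ⟨k, hk, rfl⟩ := Finset.mem_image.1 (mem_zpowers_iff_mem_range_orderOf.1 hc)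
  rw [hy, Finset.mem_range] at hk
  interval_cases k
  · exact Or.inl (pow_zero y)
  · exact Or.inr (Or.inl (pow_one y))
  · exact Or.inr (Or.inr (Or.inl (pow_two y)))
  · refine Or.inr (Or.inr (Or.inr ?_))
    rw [eq_inv_iff_mul_eq_one, ← pow_succ, show 3 + 1 = orderOf y from hy.symm, pow_orderOf_eq_one]

theorem four_gen {y c : G} (hy : orderOf y = 4) (hc : c ∈ Subgroup.zpowers y) (hc4 : c * c ≠ 1) :
    c = y ∨ c = y⁻¹ := by
  rcases mem_four_cases hy hc with h | h | h | h
  · exact absurd (by rw [h, one_mul]) hc4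
  · exact Or.inl h
  · exact absurd (by rw [h]; exact (four_facts hy).2.1) hc4
  · exact Or.inr h

/-- Two cyclic subgroups of order four with different involutions meet trivially. -/
theorem four_inter {y z c : G} (hy : orderOf y = 4) (hz : orderOf z = 4) (hne : y * y ≠ z * z)
    (hcy : c ∈ Subgroup.zpowers y) (hcz : c ∈ Subgroup.zpowers z) : c = 1 := by
  obtain ⟨hy1, hy2, -⟩ := four_facts hy
  obtain ⟨hz1, hz2, -⟩ := four_facts hz
  by_cases hcc : c * c = 1
  · have a1 : c = 1 ∨ c = y * y := by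
      rcases mem_four_cases hy hcy with h | h | h | h
      · exact Or.inl h
      · exact absurd (h ▸ hcc) hy1
      · exact Or.inr h
      · exact absurd (by simpa [h, ← mul_inv_rev] using hcc) hy1
    have a2 : c = 1 ∨ c = z * z := by
      rcases mem_four_cases hz hcz with h | h | h | h
      · exact Or.inl h
      · exact absurd (h ▸ hcc) hz1
      · exact Or.inr h
      · exact absurd (by simpa [h, ← mul_inv_rev] using hcc) hz1
    rcases a1 with h | h
    · exact h
    · rcases a2 with h' | h'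
      · exact h'
      · exact absurd (h.symm.trans h') hne
  · exfalso
    have hsq : ∀ {w : G}, orderOf w = 4 → c ∈ Subgroup.zpowers w → c * c = w * w := by
      intro w hw hcw
      rcases four_gen hw hcw hcc with h | h
      · rw [h]
      · rw [h, ← mul_inv_rev, inv_eq_iff_mul_eq_one, (four_facts hw).2.1]
    exact hne ((hsq hy hcy).symm.trans (hsq hz hcz))

section

variable (hG : Nc G) {S : Subgroup G} (hS : IsPGroup 2 ↥S)

include hS in
theorem orderOf_two_pow {q : G} (hq : q ∈ S) : ∃ k, orderOf q = 2 ^ k := by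
  haveI : Fact (Nat.Prime 2) := ⟨Nat.prime_two⟩
  obtain ⟨k, hk⟩ := IsPGroup.iff_orderOf.1 hS ⟨q, hq⟩
  exact ⟨k, by rwa [Subgroup.orderOf_mk] at hk⟩

include hS in
theorem exists_invol_zpowers {q : G} (hq : q ∈ S) (hq1 : q ≠ 1) :
    ∃ j, orderOf j = 2 ∧ j ∈ Subgroup.zpowers q := by
  obtain ⟨k, hk⟩ := orderOf_two_pow hS hq
  obtain ⟨k, rfl⟩ : ∃ m, k = m + 1 := by
    refine ⟨k - 1, ?_⟩
    rcases Nat.eq_zero_or_pos k with rfl | h
    · exact absurd (orderOf_eq_one_iff.1 (by rw [hk, pow_zero])) hq1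
    · omega
  refine ⟨q ^ 2 ^ k, ?_, pow_mem (Subgroup.mem_zpowers q) _⟩
  rw [orderOf_pow_of_dvd (by positivity) (hk ▸ pow_dvd_pow 2 (Nat.le_succ k)), hk,
    Nat.pow_div (Nat.le_succ k) two_pos]
  simp

include hS in
theorem exists_four {q : G} (hq : q ∈ S) (hq2 : q * q ≠ 1) :
    ∃ m : ℕ, orderOf q = 2 ^ (m + 2) ∧ orderOf (q ^ 2 ^ m) = 4 := by
  obtain ⟨k, hk⟩ := orderOf_two_pow hS hq
  obtain ⟨m, rfl⟩ : ∃ m, k = m + 2 := by
    refine ⟨k - 2, ?_⟩
    by_contra hne
    refine hq2 (orderOf_dvd_iff_pow_eq_one.1 (?_ : orderOf q ∣ 2) |> fun h => by rwa [pow_two] at h)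
    rw [hk]
    calc 2 ^ k ∣ 2 ^ 1 := pow_dvd_pow 2 (by omega)
      _ = 2 := pow_one 2
  refine ⟨m, hk, ?_⟩
  rw [orderOf_pow_of_dvd (by positivity) (hk ▸ pow_dvd_pow 2 (Nat.le_add_right m 2)), hk,
    Nat.pow_div (Nat.le_add_right m 2) two_pos]
  simp

include hS in
/-- An element of the normalizer of `V` outside `V` with square in `V`. -/
theorem exists_sq_mem {V : Subgroup G} (hV : V ≤ S) (hne : ¬ S ≤ V) :
    ∃ s ∈ S, s ∉ V ∧ s ∈ Subgroup.normalizer (V : Set G) ∧ s * s ∈ V := by
  classical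
  haveI : Fact (Nat.Prime 2) := ⟨Nat.prime_two⟩
  have hlt : V.subgroupOf S < ⊤ := lt_top_iff_ne_top.2 fun h => hne (Subgroup.subgroupOf_eq_top.1 h)
  haveI := hS.isNilpotent
  have h := Group.normalizerCondition_of_isNilpotent (G := ↥S) _ hlt
  obtain ⟨⟨s, hs⟩, hsn, hsV⟩ := SetLike.exists_of_lt h
  rw [← Subgroup.subgroupOf_normalizer_eq hV] at hsn
  have hsn' : s ∈ Subgroup.normalizer (V : Set G) := hsn
  obtain ⟨k, hk⟩ := orderOf_two_pow hS hs
  have hex : ∃ k, s ^ 2 ^ k ∈ V := ⟨k, by rw [← hk, pow_orderOf_eq_one]; exact one_mem V⟩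
  obtain ⟨m, hm⟩ : ∃ m, Nat.find hex = m + 1 := by
    refine ⟨Nat.find hex - 1, ?_⟩
    have : Nat.find hex ≠ 0 := fun h0 => hsV (by
      have := Nat.find_spec hex
      rw [h0, pow_zero, pow_one] at this
      exact this)
    omega
  refine ⟨s ^ 2 ^ m, pow_mem hs _, Nat.find_min hex (by omega), pow_mem hsn' _, ?_⟩
  have := Nat.find_spec hex
  rw [hm, pow_succ, pow_mul, pow_two] at this
  exact this

include hG hS

/-- The square of an element of order four is central. -/
theorem four_sq_central {y : G} (hy : y ∈ S) (hy4 : orderOf y = 4) :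
    ∀ a ∈ S, Commute a (y * y) := by
  obtain ⟨hyy, hy22, hu2⟩ := four_facts hy4
  by_contra hne
  set u := y * y with hu
  set V := S ⊓ Subgroup.centralizer ({u} : Set G) with hV
  have hmV : ∀ g, g ∈ V ↔ g ∈ S ∧ Commute g u := fun g => by
    rw [hV, Subgroup.mem_inf, Subgroup.mem_centralizer_singleton_iff]; rfl
  obtain ⟨s, hs, hsV, hsn, hsw⟩ := exists_sq_mem hS (V := V) inf_le_left fun h =>
    hne fun a ha => ((hmV a).1 (h ha)).2
  set w := s * s with hw
  set u' := s * u * s⁻¹ with hu'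
  have hne' : u' ≠ u := fun h => hsV ((hmV s).2 ⟨hs, mul_inv_eq_iff_eq_mul.1 h⟩)
  have hu_self : y ∈ V := (hmV y).2 ⟨hy, (Commute.refl y).mul_right (Commute.refl y)⟩
  have hy'V : s * y * s⁻¹ ∈ V := conj_mem_of_normalizer hsn hu_self
  have hwu : Commute w u := ((hmV w).1 hsw).2
  set y' := s * y * s⁻¹ with hy'
  have hy'4 : orderOf y' = 4 := by
    rw [hy', show s * y * s⁻¹ = MulAut.conj s y from rfl, MulEquiv.orderOf_eq, hy4]
  have hy'sq : y' * y' = u' := by rw [hy', hu', hu]; group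
  have hcom : Commute y y' := by
    have hyu' : Commute y u' := by
      have h1 := conj_mem_of_normalizer (inv_mem hsn) hu_self
      rw [inv_inv] at h1
      have h2 := ((hmV _).1 h1).2
      calc y * u' = s * ((s⁻¹ * y * s) * u) * s⁻¹ := by rw [hu']; group
        _ = s * (u * (s⁻¹ * y * s)) * s⁻¹ := by rw [h2.eq]
        _ = u' * y := by rw [hu']; group
    have hc1 : y' * y * y'⁻¹ * y⁻¹ ∈ Subgroup.zpowers y :=
      mul_mem (conj_mem_zpowers hG (x := y) hu2 (mul_mem (Subgroup.mem_zpowers y) (Subgroup.mem_zpowers y))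
        (Subgroup.mem_zpowers y) ((hmV y').1 hy'V).2) (inv_mem (Subgroup.mem_zpowers y))
    have hc2 : y' * y * y'⁻¹ * y⁻¹ ∈ Subgroup.zpowers y' := by
      have h := mul_mem (Subgroup.mem_zpowers y') (conj_mem_zpowers hG (x := y') (t := u') (g := y)
        (by rw [← hy'sq]; exact (four_facts hy'4).2.2)
        (hy'sq ▸ mul_mem (Subgroup.mem_zpowers y') (Subgroup.mem_zpowers y')) (Subgroup.mem_zpowers y') hyu'
        |> inv_mem)
      convert h using 1
      group
    have := four_inter hy4 hy'4 (by rw [hy'sq]; exact fun h => hne' h.symm) hc1 hc2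
    calc y * y' = (y' * y * y'⁻¹ * y⁻¹)⁻¹ * (y' * y) := by group
      _ = y' * y := by rw [this, inv_one, one_mul]
  have hy'u : Commute y' u := ((hmV y').1 hy'V).2
  have huu : Commute u u' := by rw [← hy'sq]; exact hy'u.symm.mul_right hy'u.symm
  -- `w` centralises `y`
  have hwy : Commute w y := by
    have h1 := conj_mem_zpowers hG (x := y) hu2
      (mul_mem (Subgroup.mem_zpowers y) (Subgroup.mem_zpowers y)) (Subgroup.mem_zpowers y) hwu
    rcases four_gen hy4 h1 (fun h => hyy (by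
        have : w * (y * y) * w⁻¹ = 1 := by rw [← h]; group
        exact conj_eq_one_iff.1 this)) with h | h
    · exact mul_inv_eq_iff_eq_mul.1 h
    exfalso
    set z := y * y' with hz
    have hzz : z * z = u * u' := by
      rw [hz, show y * y' * (y * y') = y * (y' * y) * y' by group, ← hcom.eq, ← hy'sq, hu]; group
    have hz4 : orderOf z = 4 := by
      refine orderOf_eq_prime_pow (p := 2) (n := 1) ?_ ?_
      · rw [pow_one, pow_two, hzz, mul_eq_one_iff_eq_inv]
        intro he
        apply hne'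
        rw [← inv_inv u', ← he, inv_eq_of_mul_eq_one_right hy22]
      · rw [show 2 ^ (1 + 1) = 2 * 2 by norm_num, pow_mul, pow_two, pow_two, hzz,
          show u * u' * (u * u') = u * (u' * u) * u' by group, ← huu.eq,
          show u * (u * u') * u' = (u * u) * (u' * u') by group, hy22, one_mul, hu',
          show s * u * s⁻¹ * (s * u * s⁻¹) = s * (u * u) * s⁻¹ by group, hy22]
        group
    have hsu : Commute s (u * u') := by
      show s * (u * u') = u * u' * s
      rw [show s * (u * u') = (s * u * s⁻¹) * (s * s * u) * s⁻¹ by rw [hu']; group, ← hu', ← hw,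
        hwu.eq, huu.eq, hw]
      group
    have h2 := conj_mem_zpowers hG (x := z) (t := u * u') (hzz ▸ (four_facts hz4).2.2)
      (hzz ▸ mul_mem (Subgroup.mem_zpowers z) (Subgroup.mem_zpowers z)) (Subgroup.mem_zpowers z) hsu
    have h3 : s * z * s⁻¹ = y' * y⁻¹ := by
      rw [← h, hz, hy', hw]; group
    rw [h3] at h2
    have hy'' : y' * y⁻¹ * (y' * y⁻¹) ≠ 1 := by
      rw [show y' * y⁻¹ * (y' * y⁻¹) = y' * (y⁻¹ * y') * y⁻¹ by group, hcom.inv_left.eq,
        show y' * (y' * y⁻¹) * y⁻¹ = (y' * y') * (y * y)⁻¹ by group, hy'sq, Ne, mul_inv_eq_one]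
      exact hne'
    rcases four_gen hz4 h2 hy'' with e | e
    · apply hyy
      rw [hz, hcom.eq] at e
      have := mul_left_cancel e
      calc y * y = y * y⁻¹ := by rw [this]
        _ = 1 := mul_inv_cancel y
    · apply (four_facts hy'4).1
      rw [hz, mul_inv_rev] at e
      have := mul_right_cancel e
      calc y' * y' = y' * y'⁻¹ := by rw [← this]
        _ = 1 := mul_inv_cancel y'
  -- choose `y` or its inverse
  have main : ∀ a a' : G, a ∈ S → a' = s * a * s⁻¹ → Commute a a' → Commute w a →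
      a * a ≠ a' * a' → a * a' * w ≠ 1 → False := by
    intro a a' ha ha' hc hwa hne2 hq
    set q := a * s with hqdef
    have hqq : q * q = a * a' * w := by rw [hqdef, ha', hw]; group
    obtain ⟨j, hj2, hj⟩ := exists_invol_zpowers hS (mul_mem (mul_mem ha hs) (mul_mem ha hs)) (by rwa [hqq])
    have hja : Commute a j := by
      obtain ⟨k, hk : (q * q) ^ k = j⟩ := hj
      rw [← hk, hqq]
      exact (((Commute.refl a).mul_right hc).mul_right hwa.symm).zpow_right k
    have hjq : j ∈ Subgroup.zpowers q :=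
      Subgroup.zpowers_le.2 (mul_mem (Subgroup.mem_zpowers q) (Subgroup.mem_zpowers q)) hj
    have h1 := conj_mem_zpowers hG hj2 hjq (Subgroup.mem_zpowers q) hja
    have h2 : a * q * a⁻¹ * q⁻¹ = a * a'⁻¹ := by
      have hinv : a * a'⁻¹ * a⁻¹ = a'⁻¹ := by rw [(hc.inv_right).eq]; group
      rw [hqdef, ← show a * (a * a'⁻¹ * a⁻¹) = a * a'⁻¹ by rw [hinv], ha']
      group
    have h3 : a * a'⁻¹ ∈ Subgroup.zpowers q := h2 ▸ mul_mem h1 (inv_mem (Subgroup.mem_zpowers q))
    obtain ⟨k, hk : q ^ k = a * a'⁻¹⟩ := h3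
    have h4 : q * (a * a'⁻¹) * q⁻¹ = a * a'⁻¹ := by rw [← hk]; group
    have hwa' : w * a⁻¹ * w⁻¹ = a⁻¹ := by rw [hwa.inv_right.eq]; group
    have h5 : q * (a * a'⁻¹) * q⁻¹ = a' * a⁻¹ := by
      calc q * (a * a'⁻¹) * q⁻¹ = a * ((s * a * s⁻¹) * (w * a⁻¹ * w⁻¹)) * a⁻¹ := by
            rw [hqdef, ha', hw]; group
        _ = a * (a' * a⁻¹) * a⁻¹ := by rw [hwa', ← ha']
        _ = (a * a') * (a⁻¹ * a⁻¹) := by group
        _ = a' * a⁻¹ := by rw [hc.eq]; group
    rw [h4] at h5
    apply hne2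
    calc a * a = a * (a * a'⁻¹) * a' := by group
      _ = a * (a' * a⁻¹) * a' := by rw [h5]
      _ = (a * a') * (a⁻¹ * a') := by group
      _ = a' * a' := by rw [hc.eq]; group
  by_cases hq : y * y' * w = 1
  · refine main y⁻¹ y'⁻¹ (inv_mem hy) (by rw [hy']; group) (hcom.inv_inv) hwy.inv_right ?_ ?_
    · rw [← mul_inv_rev, ← mul_inv_rev, hy'sq, ← hu]
      exact fun h => hne' (inv_inj.1 h).symm
    · intro h
      apply hne'
      have e : y * y' = y⁻¹ * y'⁻¹ := mul_right_cancel (hq.trans h.symm)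
      have h6 : y * y' * (y * y') = 1 := by
        conv_lhs => arg 2; rw [e]
        rw [show y * y' * (y⁻¹ * y'⁻¹) = y * (y' * y⁻¹) * y'⁻¹ by group, hcom.symm.inv_right.eq]
        group
      rw [show y * y' * (y * y') = y * (y' * y) * y' by group, ← hcom.eq,
        show y * (y * y') * y' = (y * y) * (y' * y') by group, hy'sq, ← hu,
        mul_eq_one_iff_eq_inv] at h6
      have h7 : u⁻¹ = u := inv_eq_of_mul_eq_one_right hy22
      calc u' = u'⁻¹⁻¹ := (inv_inv u').symm
        _ = u⁻¹ := by rw [← h6]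
        _ = u := h7
  · exact main y y' hy rfl hcom hwy (by rw [hy'sq]; exact fun h => hne' h.symm) hq

/-- The data attached to an element with nontrivial square. -/
theorem sq_data {q : G} (hq : q ∈ S) (hq2 : q * q ≠ 1) :
    ∃ y, y ∈ S ∧ orderOf y = 4 ∧ y ∈ Subgroup.zpowers q ∧ y * y ∈ Subgroup.zpowers q ∧
      (∀ a ∈ S, Commute a (y * y)) ∧ ∀ a ∈ S, a * q * a⁻¹ ∈ Subgroup.zpowers q := by
  obtain ⟨m, -, hm⟩ := exists_four hS hq hq2
  have h1 : q ^ 2 ^ m ∈ Subgroup.zpowers q := pow_mem (Subgroup.mem_zpowers q) _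
  have hc := four_sq_central hG hS (pow_mem hq _) hm
  exact ⟨_, pow_mem hq _, hm, h1, mul_mem h1 h1, hc, fun a ha =>
    conj_mem_zpowers hG (four_facts hm).2.2 (mul_mem h1 h1) (Subgroup.mem_zpowers q) (hc a ha)⟩

theorem conj_mem_sq {q a : G} (hq : q ∈ S) (hq2 : q * q ≠ 1) (ha : a ∈ S) :
    a * q * a⁻¹ ∈ Subgroup.zpowers q := by
  obtain ⟨_, -, -, -, -, -, h⟩ := sq_data hG hS hq hq2
  exact h a ha

omit hG in
/-- The involution of a cyclic subgroup is the square of any of its elements of order four. -/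
theorem four_sq_eq_of_zpowers {q y j : G} (hy : orderOf y = 4) (hyq : y ∈ Subgroup.zpowers q)
    (hj : orderOf j = 2) (hjq : j ∈ Subgroup.zpowers q) : y * y = j := by
  have h := Cfsg.Agent.Invol.involution_unique_of_isCyclic (G := ↥(Subgroup.zpowers q))
    (x := ⟨y * y, mul_mem hyq hyq⟩) (y := ⟨j, hjq⟩)
    (by rw [Subgroup.orderOf_mk]; exact (four_facts hy).2.2) (by rw [Subgroup.orderOf_mk]; exact hj)
  exact congrArg Subtype.val h

/-- With two different squares of elements of order four, all elements with nontrivial square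
commute. -/
theorem commute_of_two_squares {y₀ z₀ : G} (hy₀ : y₀ ∈ S) (hz₀ : z₀ ∈ S) (hy₀4 : orderOf y₀ = 4)
    (hz₀4 : orderOf z₀ = 4) (hne : y₀ * y₀ ≠ z₀ * z₀) :
    ∀ y ∈ S, y * y ≠ 1 → ∀ w ∈ S, w * w ≠ 1 → Commute y w := by
  suffices ∀ n : ℕ, ∀ y w : G, orderOf y + orderOf w ≤ n → y ∈ S → y * y ≠ 1 → w ∈ S → w * w ≠ 1 →
      Commute y w from fun y hy hy2 w hw hw2 => this _ y w le_rfl hy hy2 hw hw2
  intro n
  induction n using Nat.strong_induction_on with
  | h n ih =>
    -- different involutions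
    have hdiff : ∀ y w : G, y ∈ S → y * y ≠ 1 → w ∈ S → w * w ≠ 1 → ∀ a b : G, orderOf a = 4 →
        a ∈ Subgroup.zpowers y → orderOf b = 4 → b ∈ Subgroup.zpowers w → a * a ≠ b * b →
        Commute y w := by
      intro y w hy hy2 hw hw2 a b ha hay hb hbw hab
      have h1 : y * w * y⁻¹ * w⁻¹ ∈ Subgroup.zpowers w :=
        mul_mem (conj_mem_sq hG hS hw hw2 hy) (inv_mem (Subgroup.mem_zpowers w))
      have h2 : y * w * y⁻¹ * w⁻¹ ∈ Subgroup.zpowers y := by
        have h := mul_mem (Subgroup.mem_zpowers y) (inv_mem (conj_mem_sq hG hS hy hy2 hw))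
        convert h using 1
        group
      by_contra hnc
      have hc1 : y * w * y⁻¹ * w⁻¹ ≠ 1 := fun h => hnc (by
        rwa [mul_inv_eq_one, mul_inv_eq_iff_eq_mul] at h)
      obtain ⟨j, hj, hjc⟩ := exists_invol_zpowers hS
        (mul_mem (mul_mem (mul_mem hy hw) (inv_mem hy)) (inv_mem hw)) hc1
      exact hab ((four_sq_eq_of_zpowers (S := S) hS ha hay hj (Subgroup.zpowers_le.2 h2 hjc)).trans
        (four_sq_eq_of_zpowers (S := S) hS hb hbw hj (Subgroup.zpowers_le.2 h1 hjc)).symm)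
    have key : ∀ y w : G, orderOf y + orderOf w ≤ n → orderOf y ≤ orderOf w → y ∈ S → y * y ≠ 1 →
        w ∈ S → w * w ≠ 1 → Commute y w := by
      intro y w hn hle hy hy2 hw hw2
      by_contra hnc
      obtain ⟨m, hm, hm4⟩ := exists_four hS hy hy2
      obtain ⟨m', hm', hm4'⟩ := exists_four hS hw hw2
      set u := y ^ 2 ^ m * y ^ 2 ^ m with hu
      have hu' : w ^ 2 ^ m' * w ^ 2 ^ m' = u := by
        by_contra h
        exact hnc (hdiff y w hy hy2 hw hw2 _ _ hm4 (pow_mem (Subgroup.mem_zpowers y) _) hm4'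
          (pow_mem (Subgroup.mem_zpowers w) _) (fun e => h e.symm))
      -- an element with another involution
      obtain ⟨z, hz, hz4, hzu⟩ : ∃ z, z ∈ S ∧ orderOf z = 4 ∧ z * z ≠ u := by
        by_cases h : y₀ * y₀ = u
        · exact ⟨z₀, hz₀, hz₀4, fun e => hne (h.trans e.symm)⟩
        · exact ⟨y₀, hy₀, hy₀4, h⟩
      obtain ⟨hzz1, hzz2, hv2⟩ := four_facts hz4
      have hzy : Commute y z := hdiff y z hy hy2 hz hzz1 _ z hm4
        (pow_mem (Subgroup.mem_zpowers y) _) hz4 (Subgroup.mem_zpowers z) (fun e => hzu e.symm)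
      have hzw : Commute w z := hdiff w z hw hw2 hz hzz1 _ z hm4'
        (pow_mem (Subgroup.mem_zpowers w) _) hz4 (Subgroup.mem_zpowers z)
        (fun e => hzu (e.symm.trans hu'))
      -- a product with `z`
      have htrick : ∀ a : G, a ∈ S → Commute a z → a * a = 1 ∨ a * a = u → Commute a w := by
        intro a ha haz ha2
        have hsq : a * z * (a * z) = a * a * (z * z) := by
          rw [show a * z * (a * z) = a * (z * a) * z by group, ← haz.eq]; group
        have hne1 : a * z * (a * z) ≠ 1 := by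
          rw [hsq]
          rcases ha2 with e | e <;> rw [e]
          · rw [one_mul]; exact hzz1
          · intro h
            apply hzu
            rw [mul_eq_one_iff_eq_inv] at h
            rw [h, eq_inv_iff_mul_eq_one]
            exact hzz2
        have h4 : orderOf (a * z) = 4 := by
          refine orderOf_eq_prime_pow (p := 2) (n := 1) (by rwa [pow_one, pow_two]) ?_
          rw [show 2 ^ (1 + 1) = 2 * 2 by norm_num, pow_mul, pow_two, pow_two, hsq]
          rcases ha2 with e | e <;> rw [e]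
          · rw [one_mul]; exact hzz2
          · have hcz : Commute u (z * z) := by
              rw [← e]
              exact (haz.mul_left haz).mul_right (haz.mul_left haz)
            rw [show u * (z * z) * (u * (z * z)) = u * ((z * z) * u) * (z * z) by group, ← hcz.eq,
              show u * (u * (z * z)) * (z * z) = u * u * (z * z * (z * z)) by group, hzz2, mul_one,
              hu, (four_facts hm4).2.1]
        have hc : Commute (a * z) w := hdiff (a * z) w (mul_mem ha hz) hne1 hw hw2 (a * z) _ h4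
          (Subgroup.mem_zpowers _) hm4' (pow_mem (Subgroup.mem_zpowers w) _) (by
            rw [hu', hsq]
            rcases ha2 with e | e <;> rw [e]
            · rwa [one_mul]
            · exact fun h => hzz1 (mul_eq_left.1 h))
        have := hc.mul_left hzw.symm.inv_left
        rwa [mul_inv_cancel_right] at this
      rcases Nat.eq_zero_or_pos m with rfl | hm0
      · refine hnc (htrick y hy hzy (Or.inr ?_))
        rw [hu, pow_zero, pow_one]
      set c := y * w * y⁻¹ * w⁻¹ with hc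
      have hcw : c ∈ Subgroup.zpowers w :=
        mul_mem (conj_mem_sq hG hS hw hw2 hy) (inv_mem (Subgroup.mem_zpowers w))
      have hcy : c ∈ Subgroup.zpowers y := by
        have h := mul_mem (Subgroup.mem_zpowers y) (inv_mem (conj_mem_sq hG hS hy hy2 hw))
        convert h using 1
        rw [hc]; group
      have hcY : Commute c y := by
        obtain ⟨k, hk : y ^ k = c⟩ := hcy
        exact hk ▸ Commute.zpow_self y k
      have hcW : Commute c w := by
        obtain ⟨k, hk : w ^ k = c⟩ := hcw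
        exact hk ▸ Commute.zpow_self w k
      have hd : y * w = c * w * y := by rw [hc]; group
      have hy2c : Commute (y * y) w := by
        refine ih _ ?_ (y * y) w le_rfl (mul_mem hy hy) ?_ hw hw2
        · have : orderOf (y * y) < orderOf y := by
            rw [← pow_two, orderOf_pow_of_dvd two_ne_zero (hm ▸ dvd_pow_self 2 (by omega)), hm]
            exact Nat.div_lt_self (by positivity) one_lt_two
          omega
        · intro h
          have := orderOf_dvd_of_pow_eq_one (x := y) (n := 4) (by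
            rw [show 4 = 2 * 2 by norm_num, pow_mul, pow_two, pow_two, h])
          rw [hm] at this
          have h8 : 8 ∣ 2 ^ (m + 2) := (show 8 = 2 ^ 3 by norm_num) ▸ pow_dvd_pow 2 (by omega)
          exact absurd (h8.trans this) (by norm_num)
      have hcp : c * c = 1 := by
        have h1 : y * y * w = c * c * w * (y * y) := by
          calc y * y * w = y * (y * w) := by group
            _ = y * (c * w * y) := by rw [hd]
            _ = (y * c) * w * y := by group
            _ = (c * y) * w * y := by rw [hcY.eq]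
            _ = c * (y * w) * y := by group
            _ = c * (c * w * y) * y := by rw [hd]
            _ = _ := by group
        rw [hy2c.eq, mul_assoc (c * c) w] at h1
        exact mul_eq_right.1 h1.symm
      have hle' : m ≤ m' := by
        rw [hm, hm'] at hle
        have := (Nat.pow_le_pow_iff_right one_lt_two).1 hle
        omega
      set e := 2 ^ (m' - m) with he
      set x := (w ^ e)⁻¹ with hx
      have hyc : Commute (c ^ e) y := hcY.pow_left _
      set d := x * y * x⁻¹ * y⁻¹ with hdd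
      have hwk : ∀ k : ℕ, y * w ^ k = c ^ k * w ^ k * y := by
        intro k
        induction k with
        | zero => simp
        | succ k ihk =>
          calc y * w ^ (k + 1) = (y * w ^ k) * w := by rw [pow_succ, mul_assoc]
            _ = c ^ k * w ^ k * (y * w) := by rw [ihk]; group
            _ = c ^ k * w ^ k * (c * w * y) := by rw [hd]
            _ = c ^ k * (w ^ k * c) * w * y := by group
            _ = c ^ k * (c * w ^ k) * w * y := by rw [(hcW.pow_right k).eq]
            _ = _ := by rw [pow_succ, pow_succ]; group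
      have hdc : d = c ^ e := by
        have h := hwk e
        have hcwe : Commute (c ^ e) (w ^ e) := hcW.pow_pow _ _
        calc d = (w ^ e)⁻¹ * (y * w ^ e) * y⁻¹ := by rw [hdd, hx]; group
          _ = (w ^ e)⁻¹ * (c ^ e * w ^ e) := by rw [h]; group
          _ = c ^ e := by rw [hcwe.eq]; group
      have hpow : (y * x) ^ 2 ^ (m + 1) = 1 := by
        rw [pow_mul_central (d := d) (show x * y = d * y * x by rw [hdd]; group) (hdc ▸ hyc)
          (hdc ▸ hx ▸ ((hcW.pow_pow _ _).inv_right))]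
        have h1 : d ^ (2 ^ (m + 1)).choose 2 = 1 := by
          have h2 : 2 ∣ (2 ^ (m + 1)).choose 2 := Nat.prime_two.dvd_choose_pow (by norm_num) (by
            have : 4 ≤ 2 ^ (m + 1) := by
              calc 4 = 2 ^ 2 := by norm_num
                _ ≤ _ := Nat.pow_le_pow_right two_pos (by omega)
            omega)
          obtain ⟨r, hr⟩ := h2
          rw [hdc, hr, ← pow_mul, mul_comm, mul_assoc, pow_mul, pow_two, hcp, one_pow]
        have h3 : y ^ 2 ^ (m + 1) = u := by rw [hu, ← pow_add]; congr 1; ring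
        have h4 : x ^ 2 ^ (m + 1) = u⁻¹ := by
          rw [hx, inv_pow, ← hu', ← pow_add, ← pow_mul, he, ← pow_add,
            show m' - m + (m + 1) = m' + 1 by omega, ← two_mul, ← pow_succ']
        rw [h1, h3, h4, mul_one, mul_inv_cancel]
      have hxS : x ∈ S := inv_mem (pow_mem hw _)
      have hyxS : y * x ∈ S := mul_mem hy hxS
      have hlt : orderOf (y * x) < orderOf y := by
        refine lt_of_le_of_lt (Nat.le_of_dvd (by positivity) (orderOf_dvd_of_pow_eq_one hpow)) ?_
        rw [hm]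
        exact Nat.pow_lt_pow_right one_lt_two (by omega)
      have hfin : Commute (y * x) w := by
        by_cases h2 : y * x * (y * x) = 1
        · exact htrick _ hyxS (hzy.mul_left (hx ▸ (hzw.pow_left _).inv_left)) (Or.inl h2)
        · exact ih _ (by omega) (y * x) w le_rfl hyxS h2 hw hw2
      apply hnc
      have hxw : Commute x w := hx ▸ (Commute.pow_self w _).inv_left
      have := hfin.mul_left hxw.inv_left
      rwa [mul_inv_cancel_right] at this
    intro y w hn hy hy2 hw hw2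
    rcases le_total (orderOf y) (orderOf w) with h | h
    · exact key y w hn h hy hy2 hw hw2
    · exact (key w y (by omega) h hw hw2 hy hy2).symm

/-- An involution inverting all elements with nontrivial square forces them to commute. -/
theorem commute_of_inverting {e : G} (he : e ∈ S) (hinv : ∀ q ∈ S, q * q ≠ 1 → e * q * e⁻¹ = q⁻¹) :
    ∀ y ∈ S, y * y ≠ 1 → ∀ w ∈ S, w * w ≠ 1 → Commute y w := by
  by_cases h2 : ∃ a ∈ S, ∃ b ∈ S, orderOf a = 4 ∧ orderOf b = 4 ∧ a * a ≠ b * b
  · obtain ⟨a, ha, b, hb, ha4, hb4, hne⟩ := h2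
    exact commute_of_two_squares hG hS ha hb ha4 hb4 hne
  intro y hy hy2 w hw hw2
  by_contra hnc
  have hprod : ∀ y w : G, y ∈ S → y * y ≠ 1 → w ∈ S → w * w ≠ 1 → ¬ Commute y w →
      y * w * (y * w) = 1 := by
    intro y w hy hy2 hw hw2 hnc
    by_contra h
    apply hnc
    have h1 := hinv (y * w) (mul_mem hy hw) h
    rw [show e * (y * w) * e⁻¹ = (e * y * e⁻¹) * (e * w * e⁻¹) by group, hinv y hy hy2,
      hinv w hw hw2, mul_inv_rev] at h1
    calc y * w = (w⁻¹ * y⁻¹)⁻¹ := by group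
      _ = (y⁻¹ * w⁻¹)⁻¹ := by rw [h1]
      _ = w * y := by group
  have hwinv : w⁻¹ * w⁻¹ ≠ 1 := by rw [← mul_inv_rev, Ne, inv_eq_one]; exact hw2
  have hyinv : y⁻¹ * y⁻¹ ≠ 1 := by rw [← mul_inv_rev, Ne, inv_eq_one]; exact hy2
  have p1 := hprod y w hy hy2 hw hw2 hnc
  have p2 := hprod y w⁻¹ hy hy2 (inv_mem hw) hwinv (fun h => hnc (by simpa using h.inv_right))
  have p3 := hprod w y hw hw2 hy hy2 (fun h => hnc h.symm)
  have key : ∀ y w : G, y ∈ S → w ∈ S → w * w ≠ 1 → y * w * (y * w) = 1 →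
      y * w⁻¹ * (y * w⁻¹) = 1 → y * y * (y * y) = 1 ∧ Commute (y * y) w := by
    intro y w hy hw hw2 p1 p2
    have e1 : y * w * y = w⁻¹ := by
      rw [eq_inv_iff_mul_eq_one, ← p1]; group
    have e2 : y * w⁻¹ * y = w := by
      rw [← inv_inv w, eq_inv_iff_mul_eq_one, inv_inv, ← p2]; group
    obtain ⟨k, hk : w ^ k = y * w * y⁻¹⟩ := conj_mem_sq hG hS hw hw2 hy
    have hyy : y * y = w ^ (-k) * w⁻¹ := by
      rw [← e1, zpow_neg, hk]; group
    have hcom : Commute (y * y) w := by
      rw [hyy]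
      exact (Commute.zpow_self w _).mul_left (Commute.inv_left (Commute.refl w))
    refine ⟨?_, hcom⟩
    have h5 : w⁻¹ * (y * y)⁻¹ * (w * (y * y)⁻¹) = 1 := by
      calc w⁻¹ * (y * y)⁻¹ * (w * (y * y)⁻¹) = (y * w * y) * (y * y)⁻¹ * ((y * w⁻¹ * y) * (y * y)⁻¹) := by
            rw [e1, e2]
        _ = 1 := by group
    rw [mul_assoc w⁻¹, ← mul_assoc (y * y)⁻¹, hcom.inv_left.eq] at h5
    have h6 : (y * y)⁻¹ * (y * y)⁻¹ = 1 := by
      rw [← h5]; group
    rw [← mul_inv_rev, inv_eq_one] at h6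
    exact h6
  obtain ⟨hy4, hyyw⟩ := key y w hy hw hw2 p1 p2
  have p4 := hprod w y⁻¹ hw hw2 (inv_mem hy) hyinv (fun h => hnc (by simpa using h.symm.inv_left))
  obtain ⟨hw4, -⟩ := key w y hw hy hy2 p3 p4
  have hord : ∀ a : G, a * a ≠ 1 → a * a * (a * a) = 1 → orderOf a = 4 := fun a h1 h4 => by
    refine orderOf_eq_prime_pow (p := 2) (n := 1) (by rwa [pow_one, pow_two]) ?_
    rw [show 2 ^ (1 + 1) = 2 * 2 by norm_num, pow_mul, pow_two, pow_two, h4]
  have heq : y * y = w * w := by
    by_contra hne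
    exact h2 ⟨y, hy, w, hw, hord y hy2 hy4, hord w hw2 hw4, hne⟩
  apply hnc
  have e1 : y * w * y = w⁻¹ := by
    rw [eq_inv_iff_mul_eq_one, ← p1]; group
  have e3 : y * w * y⁻¹ = w := by
    calc y * w * y⁻¹ = (y * w * y) * (y * y)⁻¹ := by group
      _ = w⁻¹ * (w * w)⁻¹ := by rw [e1, heq]
      _ = w * (w * w * (w * w))⁻¹ := by group
      _ = w := by rw [hw4, inv_one, mul_one]
  exact mul_inv_eq_iff_eq_mul.1 e3

end

/-- The centre is trivial. -/
theorem center_eq_bot (hG : Hy G) : Subgroup.center G = ⊥ :=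
  hG.ss _ inferInstance (Group.isSolvable_of_comm fun a b =>
    Subtype.ext ((Subgroup.mem_center_iff.1 b.2 a)))

/-- Every involution of a Sylow 2-subgroup has another conjugate in it. -/
theorem not_isolated (hG : Hy G) (S : Sylow 2 G) {t : G} (ht : orderOf t = 2)
    (htS : t ∈ (S : Subgroup G)) : ∃ g : G, g * t * g⁻¹ ∈ (S : Subgroup G) ∧ g * t * g⁻¹ ≠ t := by
  by_contra hno
  push Not at hno
  obtain ⟨N, hNn, hNodd, hN⟩ := Cfsg.Agent.S0215.result S t ht htS hno
  have hbot := hG.ss N hNn (hG.ft ↥N hNodd)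
  have hc : t ∈ Subgroup.center G := Subgroup.mem_center_iff.2 fun g => by
    have := hN g
    rw [hbot, Subgroup.mem_bot, mul_inv_eq_one, mul_inv_eq_iff_eq_mul] at this
    exact this.symm
  rw [center_eq_bot hG, Subgroup.mem_bot] at hc
  rw [hc, orderOf_one] at ht
  omega

/-- A nonabelian Sylow 2-subgroup has an element inverting all elements with nontrivial square. -/
theorem exists_inverting (hG : Hy G) (S : Sylow 2 G)
    (hna : ¬ ∀ a ∈ (S : Subgroup G), ∀ b ∈ (S : Subgroup G), Commute a b) :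
    ∃ e ∈ (S : Subgroup G), (∃ y ∈ (S : Subgroup G), y * y ≠ 1) ∧
      ∀ q ∈ (S : Subgroup G), q * q ≠ 1 → e * q * e⁻¹ = q⁻¹ := by
  haveI : Fact (Nat.Prime 2) := ⟨Nat.prime_two⟩
  have hS : IsPGroup 2 ↥(S : Subgroup G) := S.isPGroup'
  have hinv : ∀ a b : G, a * a = 1 → a * b * (a * b) = 1 → a * b * a⁻¹ = b⁻¹ := by
    intro a b ha hab
    rw [inv_eq_of_mul_eq_one_right ha, eq_inv_iff_mul_eq_one, ← hab]
    group
  by_cases hB : ∀ y ∈ (S : Subgroup G), y * y ≠ 1 → ∀ w ∈ (S : Subgroup G), w * w ≠ 1 → Commute y w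
  · obtain ⟨x, hx, hx2, y, hy, hy2, hxy⟩ : ∃ x ∈ (S : Subgroup G), x * x = 1 ∧
        ∃ y ∈ (S : Subgroup G), y * y ≠ 1 ∧ ¬ Commute x y := by
      push Not at hna
      obtain ⟨a, ha, b, hb, hab⟩ := hna
      by_cases ha2 : a * a = 1 <;> by_cases hb2 : b * b = 1
      · refine ⟨a, ha, ha2, a * b, mul_mem ha hb, fun h => hab ?_, fun h => hab ?_⟩
        · show a * b = b * a
          calc a * b = (a * b)⁻¹ := (inv_eq_of_mul_eq_one_right h).symm
            _ = b⁻¹ * a⁻¹ := mul_inv_rev a b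
            _ = b * a := by rw [inv_eq_of_mul_eq_one_right ha2, inv_eq_of_mul_eq_one_right hb2]
        · have h1 := (Commute.refl a).inv_right.mul_right h
          rwa [inv_mul_cancel_left] at h1
      · exact ⟨a, ha, ha2, b, hb, hb2, hab⟩
      · exact ⟨b, hb, hb2, a, ha, ha2, fun h => hab h.symm⟩
      · exact absurd (hB a ha ha2 b hb hb2) hab
    refine ⟨x, hx, ⟨y, hy, hy2⟩, fun q hq hq2 => hinv x q hx2 ?_⟩
    by_contra h
    have h1 : Commute (x * q) y := hB _ (mul_mem hx hq) h y hy hy2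
    apply hxy
    have := h1.mul_left (hB q hq hq2 y hy hy2).inv_left
    rwa [mul_inv_cancel_right] at this
  · -- all squares of elements of order four coincide
    obtain ⟨b, hb, hb2, -⟩ : ∃ y ∈ (S : Subgroup G), y * y ≠ 1 ∧ True := by
      by_contra h
      push Not at h
      exact hB fun y hy hy2 => (h y hy hy2).elim
    obtain ⟨y₀, hy₀, hy₀4, -, -, htc, -⟩ := sq_data hG.toNc hS hb hb2
    set t := y₀ * y₀ with htdef
    have hall : ∀ a ∈ (S : Subgroup G), orderOf a = 4 → a * a = t := fun a ha ha4 => by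
      by_contra hne
      exact hB (commute_of_two_squares hG.toNc hS ha hy₀ ha4 hy₀4 hne)
    have ht : orderOf t = 2 := (four_facts hy₀4).2.2
    obtain ⟨g, hgS, hgt⟩ := not_isolated hG S ht (mul_mem hy₀ hy₀)
    set e := g * t * g⁻¹ with he
    set C := Subgroup.centralizer ({t} : Set G) with hC
    have hSC : (S : Subgroup G) ≤ C := fun a ha =>
      Subgroup.mem_centralizer_singleton_iff.2 (htc a ha)
    set Q := ((S : Subgroup G) ⊓ Subgroup.centralizer ({e} : Set G)).map (MulAut.conj g⁻¹).toMonoidHom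
    have hQC : Q ≤ C := by
      rintro _ ⟨a, ha, rfl⟩
      have hae := Subgroup.mem_centralizer_singleton_iff.1 ha.2
      rw [Subgroup.mem_centralizer_singleton_iff, MulEquiv.coe_toMonoidHom, MulAut.conj_apply, inv_inv]
      calc g⁻¹ * a * g * t = g⁻¹ * (a * e) * g := by rw [he]; group
        _ = g⁻¹ * (e * a) * g := by rw [hae]
        _ = t * (g⁻¹ * a * g) := by rw [he]; group
    have hQp : IsPGroup 2 ↥(Q.subgroupOf C) :=
      ((hS.to_le inf_le_left).map (MulAut.conj g⁻¹).toMonoidHom).comap_subtype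
    obtain ⟨T, hT⟩ := hQp.exists_le_sylow
    obtain ⟨c, hc⟩ := MulAction.exists_smul_eq ↥C T (S.subtype hSC)
    have hmove : ∀ a ∈ (S : Subgroup G), Commute a e →
        (c : G) * g⁻¹ * a * ((c : G) * g⁻¹)⁻¹ ∈ (S : Subgroup G) := by
      intro a ha hae
      have hmem : g⁻¹ * a * g ∈ Q := ⟨a, ⟨ha, Subgroup.mem_centralizer_singleton_iff.2 hae.eq⟩, by simp⟩
      have h1 : c * (⟨g⁻¹ * a * g, hQC hmem⟩ : C) * c⁻¹ ∈ ((S.subtype hSC : Sylow 2 C) : Subgroup C) := by
        rw [← hc, Sylow.coe_subgroup_smul]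
        exact Subgroup.smul_mem_pointwise_smul _ (MulAut.conj c) _ (hT hmem)
      have h2 : (c : G) * (g⁻¹ * a * g) * (c : G)⁻¹ ∈ (S : Subgroup G) := h1
      rwa [mul_inv_rev, inv_inv, show (c : G) * g⁻¹ * a * (g * (c : G)⁻¹) =
        (c : G) * (g⁻¹ * a * g) * (c : G)⁻¹ by group]
    have hnoB : ∀ q ∈ (S : Subgroup G), q * q ≠ 1 → ¬ Commute e q := by
      intro q hq hq2 hcom
      set k := (c : G) * g⁻¹
      have hkq := hmove q hq hcom.symm
      have hkq2 : k * q * k⁻¹ * (k * q * k⁻¹) ≠ 1 := fun h => hq2 (by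
        rw [show k * q * k⁻¹ * (k * q * k⁻¹) = k * (q * q) * k⁻¹ by group] at h
        exact conj_eq_one_iff.1 h)
      obtain ⟨m, -, hm4⟩ := exists_four hS hkq hkq2
      have h1 := hall _ (pow_mem hkq _) hm4
      rw [conj_pow] at hm4 h1
      have hq4 : orderOf (q ^ 2 ^ m) = 4 := by
        rwa [show k * q ^ 2 ^ m * k⁻¹ = MulAut.conj k (q ^ 2 ^ m) from rfl, MulEquiv.orderOf_eq] at hm4
      have h2 := hall _ (pow_mem hq _) hq4
      rw [show k * q ^ 2 ^ m * k⁻¹ * (k * q ^ 2 ^ m * k⁻¹) = k * (q ^ 2 ^ m * q ^ 2 ^ m) * k⁻¹ by group,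
        h2] at h1
      have hct : (c : G) * t = t * c := Subgroup.mem_centralizer_singleton_iff.1 c.2
      apply hgt
      have h3 : g⁻¹ * t * g = t := by
        calc g⁻¹ * t * g = (c : G)⁻¹ * (k * t * k⁻¹) * c := by
              rw [show k = (c : G) * g⁻¹ from rfl]; group
          _ = (c : G)⁻¹ * t * c := by rw [h1]
          _ = t := by rw [mul_assoc, ← hct]; group
      rw [he]
      calc g * t * g⁻¹ = g * (g⁻¹ * t * g) * g⁻¹ := by rw [h3]
        _ = t := by group
    have he2 : e * e = 1 := by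
      rw [he, show g * t * g⁻¹ * (g * t * g⁻¹) = g * (t * t) * g⁻¹ by group, htdef,
        (four_facts hy₀4).2.1]
      group
    refine ⟨e, hgS, ⟨b, hb, hb2⟩, fun q hq hq2 => ?_⟩
    by_cases heq : e * q * (e * q) = 1
    · exact hinv e q he2 heq
    -- otherwise `q` has order four
    have h1 := mul_mem (conj_mem_sq hG.toNc hS (mul_mem hgS hq) heq hq)
      (inv_mem (Subgroup.mem_zpowers (e * q)))
    obtain ⟨j, hj : (e * q) ^ j = _⟩ := h1
    set z := q * (e * q * e⁻¹)⁻¹ with hz
    have hz' : q * (e * q) * q⁻¹ * (e * q)⁻¹ = z := by rw [hz]; group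
    rw [hz'] at hj
    have hqn := conj_mem_sq hG.toNc hS hq hq2 hgS
    have hzq : Commute z q := by
      obtain ⟨i, hi : q ^ i = e * q * e⁻¹⟩ := hqn
      rw [hz, ← hi]
      exact ((Commute.refl q).mul_left (Commute.zpow_self q i).inv_left)
    have hze : Commute z e := by
      have h2 : Commute z (e * q) := hj ▸ Commute.zpow_self (e * q) j
      have := h2.mul_right hzq.inv_right
      rwa [mul_inv_cancel_right] at this
    have hzS : z ∈ (S : Subgroup G) :=
      mul_mem hq (inv_mem (mul_mem (mul_mem hgS hq) (inv_mem hgS)))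
    have hz2 : z * z = 1 := by
      by_contra h
      exact hnoB z hzS h hze.symm
    have hqq : Commute e (q * q) := by
      have hcq : Commute q (e * q * e⁻¹) := by
        obtain ⟨i, hi : q ^ i = e * q * e⁻¹⟩ := hqn
        rw [← hi]; exact (Commute.zpow_self q i).symm
      rw [hz, show q * (e * q * e⁻¹)⁻¹ * (q * (e * q * e⁻¹)⁻¹) =
        q * ((e * q * e⁻¹)⁻¹ * q) * (e * q * e⁻¹)⁻¹ by group, ← hcq.inv_right.eq,
        show q * (q * (e * q * e⁻¹)⁻¹) * (e * q * e⁻¹)⁻¹ = q * q * (e * (q * q) * e⁻¹)⁻¹ by group,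
        mul_inv_eq_one] at hz2
      exact mul_inv_eq_iff_eq_mul.1 hz2.symm
    have hq4 : orderOf q = 4 := by
      refine orderOf_eq_prime_pow (p := 2) (n := 1) (by rwa [pow_one, pow_two]) ?_
      rw [show 2 ^ (1 + 1) = 2 * 2 by norm_num, pow_mul, pow_two, pow_two]
      by_contra h
      exact hnoB _ (mul_mem hq hq) h hqq
    rcases four_gen hq4 hqn (fun h => hq2 (by
        rw [show e * q * e⁻¹ * (e * q * e⁻¹) = e * (q * q) * e⁻¹ by group] at h
        exact conj_eq_one_iff.1 h)) with h | h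
    · exact absurd (mul_inv_eq_iff_eq_mul.1 h) (hnoB q hq hq2)
    · exact h

/-- A nonabelian Sylow 2-subgroup is generalized dihedral. -/
theorem exists_gen_dihedral (hG : Hy G) (S : Sylow 2 G)
    (hna : ¬ ∀ a ∈ (S : Subgroup G), ∀ b ∈ (S : Subgroup G), Commute a b) :
    ∃ A : Subgroup G, A ≤ (S : Subgroup G) ∧ (∀ a ∈ A, ∀ b ∈ A, Commute a b) ∧
      (∃ s ∈ (S : Subgroup G), s ∉ A) ∧
      (∀ s ∈ (S : Subgroup G), s ∉ A → s * s = 1 ∧ ∀ a ∈ A, s * a * s⁻¹ = a⁻¹) ∧
      (∀ r ∈ (S : Subgroup G), r ∉ A → ∀ s ∈ (S : Subgroup G), s ∉ A → r * s ∈ A) ∧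
      ∃ y ∈ A, orderOf y = 4 := by
  haveI : Fact (Nat.Prime 2) := ⟨Nat.prime_two⟩
  have hS : IsPGroup 2 ↥(S : Subgroup G) := S.isPGroup'
  obtain ⟨e, he, ⟨y, hy, hy2⟩, hinv⟩ := exists_inverting hG S hna
  have hcomm := commute_of_inverting hG.toNc hS he hinv
  set A := (S : Subgroup G) ⊓ Subgroup.centralizer {q : G | q ∈ (S : Subgroup G) ∧ q * q ≠ 1} with hA
  have hmA : ∀ a, a ∈ A ↔ a ∈ (S : Subgroup G) ∧
      ∀ q ∈ (S : Subgroup G), q * q ≠ 1 → Commute a q := fun a => by
    rw [hA, Subgroup.mem_inf, Subgroup.mem_centralizer_iff]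
    exact and_congr_right fun _ =>
      ⟨fun h q hq hq2 => ((show Commute q a from h q ⟨hq, hq2⟩)).symm,
       fun h q hq => (h q hq.1 hq.2).symm.eq⟩
  have hBA : ∀ q ∈ (S : Subgroup G), q * q ≠ 1 → q ∈ A := fun q hq hq2 =>
    (hmA q).2 ⟨hq, hcomm q hq hq2⟩
  have hAab : ∀ a ∈ A, ∀ b ∈ A, Commute a b := by
    intro a ha b hb
    obtain ⟨haS, hac⟩ := (hmA a).1 ha
    obtain ⟨hbS, hbc⟩ := (hmA b).1 hb
    by_cases hb2 : b * b = 1
    · by_cases ha2 : a * a = 1
      · by_cases hab : a * b * (a * b) = 1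
        · show a * b = b * a
          calc a * b = (a * b)⁻¹ := (inv_eq_of_mul_eq_one_right hab).symm
            _ = b⁻¹ * a⁻¹ := mul_inv_rev a b
            _ = b * a := by rw [inv_eq_of_mul_eq_one_right ha2, inv_eq_of_mul_eq_one_right hb2]
        · have h := (Commute.refl a).inv_right.mul_right (hac _ (mul_mem haS hbS) hab)
          rwa [inv_mul_cancel_left] at h
      · exact (hbc a haS ha2).symm
    · exact hac b hbS hb2
  have hinvo : ∀ a b : G, a * a = 1 → a * b * (a * b) = 1 → a * b * a⁻¹ = b⁻¹ := by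
    intro a b ha hab
    rw [inv_eq_of_mul_eq_one_right ha, eq_inv_iff_mul_eq_one, ← hab]
    group
  have hout : ∀ s ∈ (S : Subgroup G), s ∉ A → s * s = 1 ∧
      ∀ q ∈ (S : Subgroup G), q * q ≠ 1 → s * q * s⁻¹ = q⁻¹ := by
    intro s hs hsA
    have hs2 : s * s = 1 := by_contra fun h => hsA (hBA s hs h)
    refine ⟨hs2, fun q hq hq2 => hinvo s q hs2 ?_⟩
    by_contra h
    apply hsA
    refine (hmA s).2 ⟨hs, fun w hw hw2 => ?_⟩
    have := (hcomm (s * q) (mul_mem hs hq) h w hw hw2).mul_left (hcomm q hq hq2 w hw hw2).inv_left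
    rwa [mul_inv_cancel_right] at this
  have hyA := hBA y hy hy2
  have hinvA : ∀ s ∈ (S : Subgroup G), s ∉ A → ∀ a ∈ A, s * a * s⁻¹ = a⁻¹ := by
    intro s hs hsA a ha
    obtain ⟨haS, hac⟩ := (hmA a).1 ha
    obtain ⟨hs2, hsinv⟩ := hout s hs hsA
    by_cases ha2 : a * a = 1
    · have hay : a * y * (a * y) ≠ 1 := by
        rw [show a * y * (a * y) = a * (y * a) * y by group, ← (hac y hy hy2).eq,
          show a * (a * y) * y = a * a * (y * y) by group, ha2, one_mul]
        exact hy2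
      have h1 := hsinv (a * y) (mul_mem haS hy) hay
      calc s * a * s⁻¹ = s * (a * y) * s⁻¹ * (s * y * s⁻¹)⁻¹ := by group
        _ = (a * y)⁻¹ * y⁻¹⁻¹ := by rw [h1, hsinv y hy hy2]
        _ = y⁻¹ * (a⁻¹ * y) := by group
        _ = a⁻¹ := by rw [((hac y hy hy2).inv_left).eq]; group
    · exact hsinv a haS ha2
  refine ⟨A, inf_le_left, hAab, ⟨e, he, fun h => hy2 ?_⟩,
    fun s hs hsA => ⟨(hout s hs hsA).1, hinvA s hs hsA⟩, fun r hr hrA s hs hsA => ?_, ?_⟩
  · have h1 := hinv y hy hy2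
    rw [mul_inv_eq_iff_eq_mul] at h1
    have h2 := (((hmA e).1 h).2 y hy hy2).eq
    rw [h1] at h2
    have h3 := mul_right_cancel h2
    calc y * y = y * y⁻¹ := by rw [h3]
      _ = 1 := mul_inv_cancel y
  · refine (hmA _).2 ⟨mul_mem hr hs, fun q hq hq2 => ?_⟩
    show r * s * q = q * (r * s)
    obtain ⟨-, h1⟩ := hout r hr hrA
    obtain ⟨-, h2⟩ := hout s hs hsA
    have hq2' : q⁻¹ * q⁻¹ ≠ 1 := by rw [← mul_inv_rev, Ne, inv_eq_one]; exact hq2
    calc r * s * q = r * (s * q * s⁻¹) * r⁻¹ * (r * s) := by group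
      _ = q * (r * s) := by rw [h2 q hq hq2, h1 _ (inv_mem hq) hq2', inv_inv]
  · obtain ⟨m, -, hm⟩ := exists_four hS hy hy2
    exact ⟨y ^ 2 ^ m, pow_mem hyA _, hm⟩

end Cfsg.Agent.Transfer.NormCyc
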